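import Mathlib

/-! Quadratic Gauss sums in characteristic two and the Arf-type obstruction for conjugating
isometries of a quadratic form. -/

set_option autoImplicit false
set_option linter.style.haveILetI false

namespace CfsgLib.CharTwoInv

open QuadraticMap

variable {F : Type*} [Field F] [Fintype F] [CharP F 2]

variable (F) in
/-- The Artin–Schreier map. -/
def asMap : F →+ F where
  toFun x := x + x ^ 2
  map_zero' := by simp
  map_add' x y := by rw [add_pow_char]; ring

variable (F) in
/-- The image of the Artin–Schreier map. -/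
def asRange : AddSubgroup F := (asMap F).range

theorem mem_asRange {x : F} : x ∈ asRange F ↔ ∃ μ : F, μ + μ ^ 2 = x := Iff.rfl

theorem add_sq_mem_asRange (x : F) : x + x ^ 2 ∈ asRange F := ⟨x, rfl⟩

variable (F) in
theorem asRange_index : (asRange F).index = 2 := by
  have hker : Nat.card (asMap F).ker = 2 := by
    have hset : ((asMap F).ker : Set F) = {0, 1} := by
      ext x
      simp only [SetLike.mem_coe, AddMonoidHom.mem_ker, Set.mem_insert_iff, Set.mem_singleton_iff]
      show x + x ^ 2 = 0 ↔ _
      rw [CharTwo.add_eq_zero, pow_two, eq_comm]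
      exact IsIdempotentElem.iff_eq_zero_or_one
    show Nat.card ((asMap F).ker : Set F) = 2
    rw [hset, Nat.card_coe_set_eq, Set.ncard_pair zero_ne_one]
  have h1 := (asMap F).ker.card_mul_index
  rw [AddSubgroup.index_ker] at h1
  have h2 := (asRange F).card_mul_index
  rw [hker, ← h2] at h1
  exact Nat.eq_of_mul_eq_mul_left Nat.card_pos (h1.symm.trans (mul_comm _ _))

open Classical in
/-- The additive character with values `±1` attached to `asRange`. -/
noncomputable def asSign (x : F) : ℤ := if x ∈ asRange F then 1 else -1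

theorem asSign_add (a b : F) : asSign (a + b) = asSign a * asSign b := by
  have h := AddSubgroup.add_mem_iff_of_index_two (asRange_index F) (a := a) (b := b)
  unfold asSign
  by_cases ha : a ∈ asRange F <;> by_cases hb : b ∈ asRange F <;> simp_all

theorem asSign_of_mem {x : F} (h : x ∈ asRange F) : asSign x = 1 := by simp [asSign, h]

theorem exists_asSign_neg : ∃ x : F, asSign x = -1 := by
  by_contra h
  push Not at h
  have : asRange F = ⊤ := by
    ext x; simp only [AddSubgroup.mem_top, iff_true]
    by_contra hx; exact h x (by simp [asSign, hx])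
  have h2 := asRange_index F
  rw [this, AddSubgroup.index_top] at h2
  omega

variable {V : Type*} [AddCommGroup V] [Module F V] [Fintype V]

theorem sum_asSign_linear (l : V →ₗ[F] F) (hl : l ≠ 0) : ∑ v, asSign (l v) = 0 := by
  obtain ⟨x, hx⟩ := exists_asSign_neg (F := F)
  obtain ⟨v₁, hv₁⟩ := LinearMap.surjective hl x
  have h : ∑ v, asSign (l v) = ∑ v, asSign (l (v + v₁)) :=
    (Fintype.sum_equiv (Equiv.addRight v₁) _ _ fun v => rfl).symm
  have e : ∑ v, asSign (l (v + v₁)) = -∑ v, asSign (l v) := by
    rw [← Finset.sum_neg_distrib]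
    refine Finset.sum_congr rfl fun v _ => ?_
    rw [map_add, asSign_add, hv₁, hx, mul_neg, mul_one]
  rw [e] at h
  omega

omit [Fintype F] [Fintype V] in
theorem char_two_Q_add (Q : QuadraticForm F V) (x y : V) :
    Q (x + y) = Q x + Q y + polar Q x y := QuadraticMap.map_add Q x y

omit [Fintype F] [Fintype V] in
theorem polar_self_eq_zero (Q : QuadraticForm F V) (x : V) : polar Q x x = 0 := by
  rw [QuadraticMap.polar_self, two_nsmul, CharTwo.add_self_eq_zero]

/-- The Gauss sum of a quadratic form. -/
noncomputable def gaussSum2 (Q : QuadraticForm F V) : ℤ := ∑ v, asSign (Q v)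

theorem gaussSum2_sq (Q : QuadraticForm F V) (hQ : Q.polarBilin.SeparatingLeft) :
    gaussSum2 Q * gaussSum2 Q = Fintype.card V := by
  classical
  have hpt : ∀ v d : V, asSign (Q v) * asSign (Q (v + d)) =
      asSign (Q d) * asSign (Q.polarBilin d v) := by
    intro v d
    rw [← asSign_add, ← asSign_add, char_two_Q_add, QuadraticMap.polarBilin_apply_apply,
      QuadraticMap.polar_comm (⇑Q) d v]
    congr 1
    linear_combination (Q v) * CharTwo.two_eq_zero (R := F)
  have hinner : ∀ d : V, ∑ v, asSign (Q.polarBilin d v) = if d = 0 then (Fintype.card V : ℤ) else 0 := by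
    intro d
    split_ifs with hd
    · subst hd; simp [asSign_of_mem (zero_mem _)]
    · exact sum_asSign_linear _ fun h => hd (hQ d fun y => by rw [h]; rfl)
  calc gaussSum2 Q * gaussSum2 Q = ∑ v, ∑ w, asSign (Q v) * asSign (Q w) := Finset.sum_mul_sum ..
    _ = ∑ v, ∑ d, asSign (Q v) * asSign (Q (v + d)) :=
        Finset.sum_congr rfl fun v _ =>
          (Fintype.sum_equiv (Equiv.addLeft v) _ _ fun d => rfl).symm
    _ = ∑ d, ∑ v, asSign (Q d) * asSign (Q.polarBilin d v) := by
        rw [Finset.sum_comm]; simp only [hpt]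
    _ = Fintype.card V := by
        simp only [← Finset.mul_sum, hinner, mul_ite, mul_zero, Finset.sum_ite_eq', Finset.mem_univ,
          if_true, QuadraticMap.map_zero, asSign_of_mem (zero_mem _), one_mul]

theorem gaussSum2_ne_zero (Q : QuadraticForm F V) (hQ : Q.polarBilin.SeparatingLeft) :
    gaussSum2 Q ≠ 0 := by
  intro h
  have := gaussSum2_sq Q hQ
  rw [h, mul_zero] at this
  exact_mod_cast absurd this.symm (by exact_mod_cast Fintype.card_ne_zero)

theorem mem_asRange_of_twist (Q : QuadraticForm F V) (hQ : Q.polarBilin.SeparatingLeft)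
    (g : V ≃ V) (c : V) (h : ∀ v, Q (g v) = Q v + polar Q v c ^ 2) : Q c ∈ asRange F := by
  have h1 : gaussSum2 Q = asSign (Q c) * gaussSum2 Q := by
    calc gaussSum2 Q = ∑ v, asSign (Q (g v)) := (Fintype.sum_equiv g _ _ fun v => rfl).symm
      _ = ∑ v, asSign (Q c) * asSign (Q (v + c)) := by
          refine Finset.sum_congr rfl fun v _ => ?_
          rw [h]
          have he : Q v + polar Q v c ^ 2 = (Q c + Q (v + c)) + (polar Q v c + polar Q v c ^ 2) := by
            rw [char_two_Q_add]
            linear_combination -(Q c + polar Q v c) * CharTwo.two_eq_zero (R := F)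
          rw [he, asSign_add, asSign_of_mem (add_sq_mem_asRange _), mul_one, asSign_add]
      _ = asSign (Q c) * gaussSum2 Q := by
          rw [← Finset.mul_sum]
          congr 1
          exact Fintype.sum_equiv (Equiv.addRight c) _ _ fun v => rfl
  by_contra hc
  rw [show asSign (Q c) = -1 by simp [asSign, hc]] at h1
  exact gaussSum2_ne_zero Q hQ (by omega)

omit [Fintype V] in
/-- A quadratic-additive function is the square of a linear functional. -/
theorem exists_sqrt_linear (φ : V → F) (hadd : ∀ x y, φ (x + y) = φ x + φ y)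
    (hsmul : ∀ (a : F) x, φ (a • x) = a ^ 2 * φ x) : ∃ l : V →ₗ[F] F, ∀ x, l x ^ 2 = φ x := by
  have hs : ∀ x : F, ((frobeniusEquiv F 2).symm x) ^ 2 = x := fun x => by
    rw [← frobeniusEquiv_def, RingEquiv.apply_symm_apply]
  have hinj : Function.Injective fun x : F => x ^ 2 := frobenius_inj F 2
  refine ⟨{ toFun := fun x => (frobeniusEquiv F 2).symm (φ x)
            map_add' := fun x y => hinj ?_
            map_smul' := fun a x => hinj ?_ }, fun x => hs _⟩
  · simp only [hs, hadd, add_pow_char]
  · simp only [hs, hsmul, RingHom.id_apply, smul_eq_mul, mul_pow]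

/-- Two isometries of a quadratic form that are conjugate by an isometry of its polar form are
conjugate by an isometry of the quadratic form. -/
theorem conj_isometry_of_conj_polar [FiniteDimensional F V] (Q : QuadraticForm F V)
    (hQ : Q.polarBilin.Nondegenerate) (A B : V ≃ₗ[F] V) (hA : ∀ v, Q (A v) = Q v)
    (hB : ∀ v, Q (B v) = Q v) (g : V ≃ₗ[F] V)
    (hg : ∀ u v, polar Q (g u) (g v) = polar Q u v) (hconj : ∀ v, g (A v) = B (g v)) :
    ∃ h : V ≃ₗ[F] V, (∀ v, Q (h v) = Q v) ∧ ∀ v, h (A v) = B (h v) := by
  obtain ⟨l, hl⟩ := exists_sqrt_linear (fun v => Q (g v) - Q v) (fun x y => by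
      simp only [map_add, char_two_Q_add, hg]; ring) (fun a x => by
      simp only [map_smul, QuadraticMap.map_smul, smul_eq_mul]; ring)
  obtain ⟨c, hc⟩ : ∃ c, ∀ v, polar Q v c = l v := by
    have hinj : Function.Injective (Q.polarBilin : V →ₗ[F] Module.Dual F V) := by
      rw [← LinearMap.ker_eq_bot, LinearMap.ker_eq_bot']
      intro x hx
      exact hQ.1 x fun y => by rw [hx]; rfl
    obtain ⟨c, hc⟩ := (LinearMap.injective_iff_surjective_of_finrank_eq_finrank
      (Subspace.dual_finrank_eq).symm).mp hinj l
    exact ⟨c, fun v => by rw [QuadraticMap.polar_comm, ← hc]; rfl⟩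
  have hgQ : ∀ v, Q (g v) = Q v + polar Q v c ^ 2 := fun v => by rw [hc, hl]; ring
  have hAp : ∀ v, polar Q (A v) c = polar Q v c := by
    intro v
    refine frobenius_inj F 2 ?_
    show polar Q (A v) c ^ 2 = polar Q v c ^ 2
    have := hgQ (A v)
    rw [hconj, hB, hgQ, hA] at this
    exact (add_left_cancel this).symm
  have hpolA : ∀ u v, polar Q (A u) (A v) = polar Q u v := fun u v => by
    simp only [QuadraticMap.polar, ← map_add, hA]
  have hAc : A c = c := by
    rw [← sub_eq_zero]
    refine hQ.2 _ fun y => ?_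
    obtain ⟨v, rfl⟩ := A.surjective y
    rw [map_sub, QuadraticMap.polarBilin_apply_apply, QuadraticMap.polarBilin_apply_apply,
      hpolA, hAp, sub_self]
  obtain ⟨μ, hμ⟩ := mem_asRange.mp (mem_asRange_of_twist Q hQ.1 g.toEquiv c hgQ)
  obtain ⟨t, ht⟩ : ∃ t : F, t + t ^ 2 * Q c = 1 := by
    by_cases h0 : Q c = 0
    · exact ⟨1, by rw [h0]; ring⟩
    · refine ⟨μ / Q c, ?_⟩
      field_simp
      linear_combination hμ
  let T₀ : V →ₗ[F] V :=
    { toFun := fun v => v + (t * polar Q v c) • c
      map_add' := fun x y => by rw [QuadraticMap.polar_add_left, mul_add, add_smul]; abel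
      map_smul' := fun a x => by
        rw [QuadraticMap.polar_smul_left, smul_eq_mul, RingHom.id_apply, smul_add, smul_smul]
        congr 2; ring }
  have hTT : ∀ v, T₀ (T₀ v) = v := by
    intro v
    show (v + (t * polar Q v c) • c) + (t * polar Q (v + (t * polar Q v c) • c) c) • c = v
    rw [QuadraticMap.polar_add_left, QuadraticMap.polar_smul_left, polar_self_eq_zero, smul_zero,
      add_zero, add_assoc, ← add_smul, CharTwo.add_self_eq_zero, zero_smul, add_zero]
  let T : V ≃ₗ[F] V := LinearEquiv.ofLinearMap T₀ T₀ (LinearMap.ext hTT) (LinearMap.ext hTT)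
  have hT : ∀ v, T v = v + (t * polar Q v c) • c := fun v => rfl
  refine ⟨T.trans g, fun v => ?_, fun v => ?_⟩
  · rw [LinearEquiv.trans_apply, hgQ, hT, QuadraticMap.polar_add_left,
      QuadraticMap.polar_smul_left, polar_self_eq_zero, smul_zero, add_zero, char_two_Q_add,
      QuadraticMap.map_smul, QuadraticMap.polar_smul_right, smul_eq_mul, smul_eq_mul]
    linear_combination (polar Q v c ^ 2) * ht + (polar Q v c ^ 2) * CharTwo.two_eq_zero (R := F)
  · have hTA : T (A v) = A (T v) := by rw [hT, hT, hAp, map_add, map_smul, hAc]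
    rw [LinearEquiv.trans_apply, LinearEquiv.trans_apply, hTA, hconj]

end CfsgLib.CharTwoInv
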