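import Cfsg.Agent.Lib.CharTwoInv.OmegaParity

/-! Maximal totally singular subspaces in characteristic two and the splitting of involution
classes from the orthogonal group to `Omega`. -/

set_option autoImplicit false
set_option linter.style.haveILetI false

namespace CfsgLib.CharTwoInv

open QuadraticMap Module
open CfsgLib.Classical.Quad (Frame NDPolar Orth fixSpace siegelGroup refl refl_apply)

variable {F V : Type*} [Field F] [AddCommGroup V] [Module F V] [FiniteDimensional F V]

/-- A totally singular subspace. -/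
def TotSing (Q : QuadraticForm F V) (L : Submodule F V) : Prop := ∀ x ∈ L, Q x = 0

variable {Q : QuadraticForm F V}

omit [FiniteDimensional F V] in
theorem TotSing.polar_eq {L : Submodule F V} (h : TotSing Q L) {x y : V} (hx : x ∈ L) (hy : y ∈ L) :
    polar Q x y = 0 := by
  simp [QuadraticMap.polar, h x hx, h y hy, h _ (L.add_mem hx hy)]

theorem finrank_orth (hQ : Q.polarBilin.Nondegenerate) (W : Submodule F V) :
    finrank F (LinearMap.BilinForm.orthogonal Q.polarBilin W) = finrank F V - finrank F W :=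
  LinearMap.BilinForm.finrank_orthogonal hQ W

omit [FiniteDimensional F V] in
theorem mem_orth {W : Submodule F V} {x : V} :
    x ∈ LinearMap.BilinForm.orthogonal Q.polarBilin W ↔ ∀ w ∈ W, polar Q w x = 0 := by
  rw [LinearMap.BilinForm.mem_orthogonal_iff]; rfl

theorem TotSing.two_mul_le (hQ : Q.polarBilin.Nondegenerate) {L : Submodule F V}
    (h : TotSing Q L) : 2 * finrank F L ≤ finrank F V := by
  have h1 := Submodule.finrank_mono
    (show L ≤ LinearMap.BilinForm.orthogonal Q.polarBilin L from fun x hx =>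
      mem_orth.mpr fun w hw => h.polar_eq hw hx)
  rw [finrank_orth hQ] at h1
  have := Submodule.finrank_le L
  omega

variable [CharP F 2]

/-- A reflection changes the dimension of the intersection with a maximal totally singular
subspace by exactly one. -/
theorem finrank_inf_refl (hQ : Q.polarBilin.Nondegenerate) {W L : Submodule F V} {v : V}
    (hW : TotSing Q W) (hL : TotSing Q L) (hWd : 2 * finrank F W = finrank F V)
    (hLd : 2 * finrank F L = finrank F V) (hv : Q v ≠ 0) :
    finrank F (↥(W ⊓ L.map ((refl Q v).1 : V →ₗ[F] V))) = finrank F (↥(W ⊓ L)) + 1 ∨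
      finrank F (↥(W ⊓ L)) = finrank F (↥(W ⊓ L.map ((refl Q v).1 : V →ₗ[F] V))) + 1 := by
  set σ : V →ₗ[F] V := ((refl Q v).1 : V →ₗ[F] V) with hσ
  set φ : V →ₗ[F] F := (polarBilin Q).flip v with hφ
  have hφ' : ∀ x, φ x = polar Q x v := fun x => rfl
  have hvL : v ∉ L := fun h => hv (hL v h)
  have hσx : ∀ x, σ x = x + (polar Q x v / Q v) • v := fun x => by
    rw [hσ, LinearEquiv.coe_coe, refl_apply, CharTwo.neg_eq]
  set M := L ⊓ LinearMap.ker φ with hM
  obtain ⟨l₀, hl₀, hl₀v⟩ : ∃ l ∈ L, φ l ≠ 0 := by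
    by_contra hcon
    push Not at hcon
    have hsup : TotSing Q L → False := fun _ => by
      have h1 : L ⊔ (F ∙ v) ≤ LinearMap.BilinForm.orthogonal Q.polarBilin L := by
        refine sup_le (fun x hx => mem_orth.mpr fun w hw => hL.polar_eq hw hx) ?_
        rw [Submodule.span_singleton_le_iff_mem]
        exact mem_orth.mpr fun w hw => hcon w hw
      have h2 := Submodule.finrank_mono h1
      rw [finrank_orth hQ] at h2
      have h3 := Submodule.finrank_lt_finrank_of_lt (show L < L ⊔ (F ∙ v) from
        lt_of_le_of_ne le_sup_left fun he => hvL (he ▸ Submodule.mem_sup_right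
          (Submodule.mem_span_singleton_self v)))
      omega
    exact hsup hL
  have hMd : finrank F M + 1 = finrank F L := by
    have h := LinearMap.finrank_range_add_finrank_ker (φ.domRestrict L)
    have hr : LinearMap.range (φ.domRestrict L) = ⊤ := by
      rw [LinearMap.range_eq_top]
      intro c
      exact ⟨(c / φ l₀) • ⟨l₀, hl₀⟩, by simp [hl₀v]⟩
    have hk : (LinearMap.ker (φ.domRestrict L)).map L.subtype = M := by
      rw [LinearMap.domRestrict, LinearMap.ker_comp, Submodule.map_comap_subtype]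
    rw [hr, finrank_top, finrank_self] at h
    have := (Submodule.equivMapOfInjective L.subtype L.injective_subtype
      (LinearMap.ker (φ.domRestrict L))).finrank_eq
    rw [hk] at this
    omega
  have hM' : LinearMap.BilinForm.orthogonal Q.polarBilin M = L ⊔ (F ∙ v) := by
    symm
    apply Submodule.eq_of_le_of_finrank_le
    · refine sup_le (fun x hx => mem_orth.mpr fun w hw => hL.polar_eq hw.1 hx) ?_
      rw [Submodule.span_singleton_le_iff_mem]
      exact mem_orth.mpr fun w hw => hw.2
    · rw [finrank_orth hQ]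
      have h3 := Submodule.finrank_lt_finrank_of_lt (show L < L ⊔ (F ∙ v) from
        lt_of_le_of_ne le_sup_left fun he => hvL (he ▸ Submodule.mem_sup_right
          (Submodule.mem_span_singleton_self v)))
      omega
  have hMfix : M ≤ L.map σ := fun x hx => by
    refine ⟨x, hx.1, ?_⟩
    rw [hσx, ← hφ', (show φ x = 0 from hx.2), zero_div, zero_smul, add_zero]
  have hLL : ∀ x, x ∈ L → x ∈ L.map σ → x ∈ M := by
    rintro x hx ⟨l, hl, rfl⟩
    rw [hσx] at hx ⊢
    have h1 := L.sub_mem hx hl
    rw [add_sub_cancel_left] at h1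
    have h0 : polar Q l v / Q v = 0 := by
      by_contra h0
      exact hvL (by
        have := L.smul_mem (polar Q l v / Q v)⁻¹ h1
        rwa [inv_smul_smul₀ h0] at this)
    rw [h0, zero_smul, add_zero]
    exact ⟨hl, (div_eq_zero_iff.mp h0).resolve_right hv⟩
  set S := W ⊓ LinearMap.BilinForm.orthogonal Q.polarBilin M with hS
  have hS' : S = LinearMap.BilinForm.orthogonal Q.polarBilin (W ⊔ M) := by
    ext x
    rw [hS, Submodule.mem_inf, mem_orth, mem_orth]
    constructor
    · rintro ⟨h1, h2⟩ w hw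
      obtain ⟨a, ha, b, hb, rfl⟩ := Submodule.mem_sup.mp hw
      rw [polar_add_left, hW.polar_eq ha h1, h2 b hb, add_zero]
    · intro h
      refine ⟨?_, fun w hw => h w (Submodule.mem_sup_right hw)⟩
      have hWW : LinearMap.BilinForm.orthogonal Q.polarBilin W = W := by
        symm
        apply Submodule.eq_of_le_of_finrank_le
        · exact fun y hy => mem_orth.mpr fun w hw => hW.polar_eq hw hy
        · rw [finrank_orth hQ]; omega
      rw [← hWW]
      exact mem_orth.mpr fun w hw => h w (Submodule.mem_sup_left hw)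
  have hSd : finrank F S = finrank F (↥(W ⊓ M)) + 1 := by
    rw [hS', finrank_orth hQ]
    have := Submodule.finrank_sup_add_finrank_inf_eq W M
    have := Submodule.finrank_le (W ⊔ M)
    omega
  have hSu : ∀ x ∈ S, x ∈ L ∨ x ∈ L.map σ := by
    intro x hx
    have hx0 : Q x = 0 := hW x hx.1
    have hxm : x ∈ L ⊔ (F ∙ v) := hM' ▸ hx.2
    obtain ⟨l, hl, y, hy, rfl⟩ := Submodule.mem_sup.mp hxm
    obtain ⟨a, rfl⟩ := Submodule.mem_span_singleton.mp hy
    rw [QuadraticMap.map_add Q, QuadraticMap.map_smul, hL l hl, polar_smul_right, zero_add,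
      smul_eq_mul, smul_eq_mul] at hx0
    by_cases ha : a = 0
    · left; simp [ha, hl]
    · right
      refine ⟨l, hl, ?_⟩
      rw [hσx]
      congr 2
      have h' : a * Q v + polar Q l v = 0 := by
        have : a * (a * Q v + polar Q l v) = 0 := by linear_combination hx0
        exact (mul_eq_zero.mp this).resolve_left ha
      rw [div_eq_iff hv]
      exact (CharTwo.add_eq_zero.mp h').symm
  have hor : S ≤ L ∨ S ≤ L.map σ := by
    by_contra hcon
    simp only [not_or, SetLike.not_le_iff_exists] at hcon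
    obtain ⟨⟨x, hx, hxL⟩, ⟨y, hy, hyL⟩⟩ := hcon
    rcases hSu x hx with h1 | h1
    · exact hxL h1
    rcases hSu y hy with h2 | h2
    swap
    · exact hyL h2
    rcases hSu _ (S.add_mem hx hy) with h3 | h3
    · exact hxL (by simpa using L.sub_mem h3 h2)
    · exact hyL (by simpa using (L.map σ).sub_mem h3 h1)
  have hle1 : W ⊓ L ≤ S := fun x hx =>
    ⟨hx.1, mem_orth.mpr fun w hw => hL.polar_eq hw.1 hx.2⟩
  have hle2 : W ⊓ L.map σ ≤ S := by
    rintro _ ⟨hx, l, hl, rfl⟩
    refine ⟨hx, mem_orth.mpr fun w hw => ?_⟩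
    rw [hσx, polar_add_right, polar_smul_right, hL.polar_eq hw.1 hl,
      (show polar Q w v = 0 from hw.2), smul_zero, add_zero]
  rcases hor with h | h
  · right
    have e1 : W ⊓ L = S := le_antisymm hle1 (le_inf inf_le_left h)
    have e2 : W ⊓ L.map σ = W ⊓ M :=
      le_antisymm (fun x hx => ⟨hx.1, hLL x (h (hle2 hx)) hx.2⟩) (inf_le_inf_left W hMfix)
    rw [e1, e2, hSd]
  · left
    have e1 : W ⊓ L.map σ = S := le_antisymm hle2 (le_inf inf_le_left h)
    have e2 : W ⊓ L = W ⊓ M :=
      le_antisymm (fun x hx => ⟨hx.1, hLL x hx.2 (h (hle1 hx))⟩) (inf_le_inf_left W inf_le_left)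
    rw [e1, e2, hSd]

omit [CharP F 2] [FiniteDimensional F V] in
theorem totSing_map (g : Orth Q) {L : Submodule F V} (hL : TotSing Q L) :
    TotSing Q (L.map (g.1 : V →ₗ[F] V)) := by
  rintro _ ⟨x, hx, rfl⟩
  exact (g.2 x).trans (hL x hx)

variable [Fintype F]

/-- Every isometry is a product of reflections. -/
theorem exists_refl_list (hQ : Q.polarBilin.Nondegenerate) (P : Frame Q) (g : Orth Q) :
    ∃ l : List V, (∀ v ∈ l, Q v ≠ 0) ∧ g = (l.map (refl Q)).prod := by
  have hnd : NDPolar Q := fun x hx => hQ.1 x hx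
  have hev := CfsgLib.Classical.Quad.siegelGroup_le_evenRefl hnd P
  by_cases hg : g ∈ siegelGroup Q
  · obtain ⟨l, hl, -, rfl⟩ := hev hg
    exact ⟨l, hl, rfl⟩
  · obtain ⟨h2, hiff⟩ := CfsgLib.Classical.Quad.siegel_index_even hnd P (ringChar.eq F 2)
    have hv : Q (P.f₁ + (1 : F) • P.e₁) ≠ 0 := by
      rw [CfsgLib.Classical.Quad.Q_f₁_add]; exact one_ne_zero
    have hmem : refl Q (P.f₁ + (1 : F) • P.e₁) * g ∈ siegelGroup Q := by
      rw [hiff]
      have h0 : finrank F (fixSpace g) % 2 ≠ finrank F V % 2 := fun h => hg ((hiff g).mpr h)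
      rcases CfsgLib.Classical.Quad.fixSpace_refl_mul hnd hv g with h | h <;> omega
    obtain ⟨l, hl, -, hle⟩ := hev hmem
    refine ⟨(P.f₁ + (1 : F) • P.e₁) :: l, ?_, ?_⟩
    · intro w hw
      rcases List.mem_cons.mp hw with rfl | hw
      · exact hv
      · exact hl w hw
    · rw [List.map_cons, List.prod_cons, ← hle, ← mul_assoc,
        CfsgLib.Classical.Quad.refl_mul_self, one_mul]

theorem fix_add_inf_parity (hQ : Q.polarBilin.Nondegenerate) (P : Frame Q) {W : Submodule F V}
    (hW : TotSing Q W) (hWd : 2 * finrank F W = finrank F V) (g : Orth Q) :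
    (finrank F (fixSpace g) + finrank F (↥(W ⊓ W.map (g.1 : V →ₗ[F] V)))) % 2 = finrank F W % 2 := by
  have hnd : NDPolar Q := fun x hx => hQ.1 x hx
  obtain ⟨l, hl, rfl⟩ := exists_refl_list hQ P g
  have h1 := CfsgLib.Classical.Quad.parity_prod hnd l hl
  suffices h2 : (finrank F (↥(W ⊓ W.map ((l.map (refl Q)).prod.1 : V →ₗ[F] V))) + l.length) % 2 =
      finrank F W % 2 by omega
  clear h1
  induction l with
  | nil =>
    rw [List.map_nil, List.prod_nil, List.length_nil, add_zero]
    rw [show ((1 : Orth Q).1 : V →ₗ[F] V) = LinearMap.id from rfl, Submodule.map_id, inf_idem]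
  | cons v l ih =>
    have ih' := ih fun w hw => hl w (List.mem_cons_of_mem _ hw)
    set h := (l.map (refl Q)).prod with hh
    have hd : finrank F (W.map (h.1 : V →ₗ[F] V)) = finrank F W := LinearEquiv.finrank_map_eq h.1 W
    have hmap : W.map (((v :: l).map (refl Q)).prod.1 : V →ₗ[F] V) =
        (W.map (h.1 : V →ₗ[F] V)).map ((refl Q v).1 : V →ₗ[F] V) := by
      rw [← Submodule.map_comp]; rfl
    rw [hmap, List.length_cons]
    rcases finrank_inf_refl hQ hW (totSing_map h hW) hWd (by rw [hd]; exact hWd)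
      (hl v List.mem_cons_self) with h' | h' <;> omega

end CfsgLib.CharTwoInv
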