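import Cfsg.Agent.Lib.CharTwoInv.MaxSingular

/-! A minus-type form in dimension `2m` has no totally singular `m`-space. -/

set_option autoImplicit false
set_option linter.style.haveILetI false

namespace CfsgLib.CharTwoInv

open QuadraticMap Module

variable {F : Type*} [Field F] [Fintype F] [CharP F 2]

theorem gaussSum2_eq_card {V : Type*} [AddCommGroup V] [Module F V] [Fintype V]
    (Q : QuadraticForm F V) (hQ : Q.polarBilin.Nondegenerate) (L : Submodule F V)
    (hL : TotSing Q L) (hd : 2 * finrank F L = finrank F V) :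
    gaussSum2 Q = Nat.card L := by
  classical
  haveI : FiniteDimensional F V := Module.Finite.of_finite
  haveI : Fintype L := Fintype.ofFinite _
  have hperp : ∀ v, (∀ l : L, polar Q v l = 0) → v ∈ L := by
    intro v hv
    have h : LinearMap.BilinForm.orthogonal Q.polarBilin L = L := by
      symm
      apply Submodule.eq_of_le_of_finrank_le
      · exact fun y hy => mem_orth.mpr fun w hw => hL.polar_eq hw hy
      · rw [finrank_orth hQ]; omega
    rw [← h]
    exact mem_orth.mpr fun w hw => by rw [QuadraticMap.polar_comm]; exact hv ⟨w, hw⟩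
  have hinner : ∀ v, ∑ l : L, asSign (Q (v + (l : V))) =
      if v ∈ L then (Fintype.card L : ℤ) else 0 := by
    intro v
    have hpt : ∀ l : L, asSign (Q (v + (l : V))) =
        asSign (Q v) * asSign ((Q.polarBilin v).comp L.subtype l) := by
      intro l
      rw [char_two_Q_add, hL _ l.2, add_zero, asSign_add]; rfl
    rw [Finset.sum_congr rfl fun l _ => hpt l, ← Finset.mul_sum]
    split_ifs with hv
    · rw [Finset.sum_congr rfl fun l _ => asSign_of_mem (show (Q.polarBilin v).comp L.subtype l ∈ asRange F by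
        rw [LinearMap.comp_apply, Submodule.coe_subtype, QuadraticMap.polarBilin_apply_apply,
          hL.polar_eq hv l.2]; exact zero_mem _), hL v hv, asSign_of_mem (zero_mem _)]
      simp
    · rw [sum_asSign_linear, mul_zero]
      intro h
      exact hv (hperp v fun l => by
        have := LinearMap.congr_fun h l
        simpa using this)
  have hpos : (0 : ℤ) < Fintype.card L := by exact_mod_cast Fintype.card_pos
  have key : (Fintype.card L : ℤ) * gaussSum2 Q = Fintype.card L * Fintype.card L := by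
    calc (Fintype.card L : ℤ) * gaussSum2 Q = ∑ _l : L, gaussSum2 Q := by simp
      _ = ∑ l : L, ∑ v, asSign (Q (v + (l : V))) :=
          Finset.sum_congr rfl fun l _ =>
            (Fintype.sum_equiv (Equiv.addRight (l : V)) _ _ fun v => rfl).symm
      _ = ∑ v, if v ∈ L then (Fintype.card L : ℤ) else 0 := by
          rw [Finset.sum_comm]; exact Finset.sum_congr rfl fun v _ => hinner v
      _ = Fintype.card L * Fintype.card L := by
          rw [← Finset.sum_filter, Finset.sum_const, nsmul_eq_mul, ← Fintype.card_subtype]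
  rw [Nat.card_eq_fintype_card]
  exact mul_left_cancel₀ hpos.ne' key

theorem sum_binary_aniso [DecidableEq F] (c d : F)
    (hcd : ∀ z₁ z₂ : F, z₁ ^ 2 + c * z₁ * z₂ + d * z₂ ^ 2 = 0 → z₁ = 0 ∧ z₂ = 0) :
    ∑ z : Fin 2 → F, asSign (z 0 ^ 2 + c * z 0 * z 1 + d * z 1 ^ 2) < 0 := by
  set T := ∑ z : Fin 2 → F, asSign (z 0 ^ 2 + c * z 0 * z 1 + d * z 1 ^ 2) with hT
  have hsum : ∑ x : F, asSign x = 0 := by
    have := sum_asSign_linear (F := F) (V := F) LinearMap.id (fun h => by
      have := LinearMap.congr_fun h 1; simp at this)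
    simpa using this
  have hscale : ∀ a : F, a ≠ 0 → ∑ z : Fin 2 → F, asSign (a ^ 2 * (z 0 ^ 2 + c * z 0 * z 1 + d * z 1 ^ 2)) = T := by
    intro a ha
    refine Fintype.sum_equiv (MulAction.toPerm (Units.mk0 a ha)) _ _ fun z => ?_
    congr 1
    simp only [MulAction.toPerm_apply, Units.smul_def, Units.val_mk0, Pi.smul_apply, smul_eq_mul]
    ring
  have hline : ∀ z : Fin 2 → F, ∑ a : F, asSign (a ^ 2 * (z 0 ^ 2 + c * z 0 * z 1 + d * z 1 ^ 2)) =
      if z = 0 then (Fintype.card F : ℤ) else 0 := by
    intro z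
    split_ifs with hz
    · subst hz; simp [asSign_of_mem (zero_mem _)]
    · have hne : z 0 ^ 2 + c * z 0 * z 1 + d * z 1 ^ 2 ≠ 0 := fun h => hz (by
        obtain ⟨h0, h1⟩ := hcd _ _ h
        funext i; fin_cases i <;> simpa)
      have hb : Function.Bijective fun a : F => a ^ 2 * (z 0 ^ 2 + c * z 0 * z 1 + d * z 1 ^ 2) := by
        refine Finite.injective_iff_bijective.mp fun a b h => ?_
        exact frobenius_inj F 2 (mul_right_cancel₀ hne h)
      rw [Fintype.sum_bijective _ hb _ (fun x => asSign x) (fun a => rfl), hsum]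
  have h1 : ∑ a : F, ∑ z : Fin 2 → F, asSign (a ^ 2 * (z 0 ^ 2 + c * z 0 * z 1 + d * z 1 ^ 2)) =
      (Fintype.card F : ℤ) := by
    rw [Finset.sum_comm, Finset.sum_congr rfl fun z _ => hline z]
    simp
  rw [← Finset.add_sum_erase _ _ (Finset.mem_univ (0 : F)),
    Finset.sum_congr rfl fun a ha => hscale a (Finset.mem_erase.mp ha).1] at h1
  simp [asSign_of_mem (zero_mem _)] at h1
  have hq : 2 ≤ Fintype.card F := Fintype.one_lt_card
  have hq2 : (2 : ℤ) ≤ Fintype.card F := by exact_mod_cast hq
  by_contra hneg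
  push Not at hneg
  nlinarith

theorem minus_no_max_totSing (m : ℕ) (c d : F)
    (hcd : ∀ z₁ z₂ : F, z₁ ^ 2 + c * z₁ * z₂ + d * z₂ ^ 2 = 0 → z₁ = 0 ∧ z₂ = 0)
    (L : Submodule F ((Fin m ⊕ Fin m) ⊕ Fin 2 → F)) (hL : TotSing (minusQ m F c d) L) :
    finrank F L ≠ m + 1 := by
  classical
  intro hd
  have h1 := gaussSum2_eq_card (minusQ m F c d) (minusQ_nondeg m c d hcd) L hL
    (by rw [hd, Module.finrank_fintype_fun_eq_card, Fintype.card_sum, Fintype.card_sum,
      Fintype.card_fin, Fintype.card_fin]; ring)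
  have h2 : gaussSum2 (minusQ m F c d) = gaussSum2 (plusQ m F) *
      ∑ z : Fin 2 → F, asSign (z 0 ^ 2 + c * z 0 * z 1 + d * z 1 ^ 2) := by
    rw [gaussSum2, gaussSum2, Finset.sum_mul_sum, ← Fintype.sum_prod_type']
    refine Fintype.sum_equiv (Equiv.sumArrowEquivProdArrow _ _ _) _ _ fun v => ?_
    rw [← asSign_add, minusQ_coe, plusQ_coe]
    rfl
  let L₀ : Submodule F (Fin m ⊕ Fin m → F) :=
    LinearMap.ker (LinearMap.funLeft F F (Sum.inr : Fin m → Fin m ⊕ Fin m))
  have hL₀ : TotSing (plusQ m F) L₀ := by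
    intro x hx
    rw [plusQ_coe, Cfsg.quadFormPlus]
    apply Finset.sum_eq_zero
    intro i _
    have : x (Sum.inr i) = 0 := congrFun hx i
    rw [this, mul_zero]
  have hd₀ : finrank F L₀ = m := by
    have h := LinearMap.finrank_range_add_finrank_ker
      (LinearMap.funLeft F F (Sum.inr : Fin m → Fin m ⊕ Fin m))
    rw [LinearMap.range_eq_top.mpr (LinearMap.funLeft_surjective_of_injective F F Sum.inr Sum.inr_injective),
      finrank_top, Module.finrank_fintype_fun_eq_card, Module.finrank_fintype_fun_eq_card,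
      Fintype.card_sum, Fintype.card_fin] at h
    change m + finrank F L₀ = m + m at h
    omega
  have h3 := gaussSum2_eq_card (plusQ m F) (plusQ_nondeg m) L₀ hL₀
    (by rw [hd₀, Module.finrank_fintype_fun_eq_card, Fintype.card_sum, Fintype.card_fin]; ring)
  have hneg := sum_binary_aniso c d hcd
  have e1 : (0 : ℤ) < Nat.card L := by exact_mod_cast Nat.card_pos
  have e2 : (0 : ℤ) < Nat.card L₀ := by exact_mod_cast Nat.card_pos
  rw [h2, h3] at h1
  nlinarith

end CfsgLib.CharTwoInv
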