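import Cfsg.Agent.Lib.CharTwoInv.OrthForms
import Cfsg.Agent.Lib.Classical.Quad.Index

/-! In characteristic two an isometry lies in `Omega` iff `g - 1` has even rank. -/

set_option autoImplicit false
set_option linter.style.haveILetI false

namespace CfsgLib.CharTwoInv

open QuadraticMap Module
open CfsgLib.Classical.Quad (Frame IsHPair NDPolar Orth fixSpace siegelGroup isometryGroupEquiv)

variable {F : Type*} [Field F] {ι : Type} [Fintype ι] [DecidableEq ι]

theorem ndPolar_of_nondeg {V : Type*} [AddCommGroup V] [Module F V] {Q : QuadraticForm F V}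
    (hQ : Q.polarBilin.Nondegenerate) : NDPolar Q := fun x hx => hQ.1 x hx

theorem omega_mem_siegel [Fintype F] (Q : QuadraticForm F (ι → F))
    (hQ : Q.polarBilin.Nondegenerate) (P : Frame Q) (t : ↥(Cfsg.isometryGroup F ⇑Q)) :
    t ∈ Cfsg.Omega F ⇑Q ↔
      isometryGroupEquiv Q (Qf := ⇑Q) (fun _ => rfl) t ∈ siegelGroup Q := by
  set e := isometryGroupEquiv Q (Qf := ⇑Q) (fun _ => rfl) with he
  have hmap : (commutator ↥(Cfsg.isometryGroup F ⇑Q)).map e.toMonoidHom = siegelGroup Q := by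
    rw [commutator_def, Subgroup.map_commutator, Subgroup.map_top_of_surjective _ e.surjective,
      ← commutator_def, CfsgLib.Classical.Quad.commutator_orth_eq (ndPolar_of_nondeg hQ) P]
  rw [← hmap]
  exact (Subgroup.mem_map_iff_mem (K := commutator ↥(Cfsg.isometryGroup F ⇑Q))
    (f := e.toMonoidHom) e.injective).symm

theorem omega_mem_iff [Fintype F] [CharP F 2] (Q : QuadraticForm F (ι → F))
    (hQ : Q.polarBilin.Nondegenerate) (P : Frame Q) (hev : Even (Fintype.card ι))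
    (q : (ι → F) → F) (hq : ⇑Q = q) (t : ↥(Cfsg.isometryGroup F q)) :
    t ∈ Cfsg.Omega F q ↔ Even (((t : GL ι F) : Matrix ι ι F) - 1).rank := by
  subst hq
  have hnd := ndPolar_of_nondeg hQ
  set e := isometryGroupEquiv Q (Qf := ⇑Q) (fun _ => rfl) with he
  have h1 := omega_mem_siegel Q hQ P t
  rw [h1, (CfsgLib.Classical.Quad.siegel_index_even hnd P (ringChar.eq F 2)).2]
  have hker : fixSpace (e t) =
      LinearMap.ker (Matrix.mulVecLin (((t : GL ι F) : Matrix ι ι F) - 1)) := by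
    ext x
    rw [LinearMap.mem_eqLocus, LinearMap.mem_ker, Matrix.mulVecLin_apply, Matrix.sub_mulVec,
      Matrix.one_mulVec, sub_eq_zero, LinearMap.id_apply, LinearEquiv.coe_coe, he,
      CfsgLib.Classical.Quad.isometryGroupEquiv_apply]
  have hrn := LinearMap.finrank_range_add_finrank_ker
    (Matrix.mulVecLin (((t : GL ι F) : Matrix ι ι F) - 1))
  rw [hker, Module.finrank_fintype_fun_eq_card, Nat.even_iff]
  rw [Module.finrank_fintype_fun_eq_card] at hrn
  rw [Matrix.rank]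
  rw [Nat.even_iff] at hev
  omega

theorem plusQ_frame (m : ℕ) (hm : 3 ≤ m) : Nonempty (Frame (plusQ m F)) := by
  classical
  let i₁ : Fin m := ⟨0, by omega⟩
  let i₂ : Fin m := ⟨1, by omega⟩
  let i₃ : Fin m := ⟨2, by omega⟩
  have h12 : i₁ ≠ i₂ := by simp [i₁, i₂]
  have h13 : i₁ ≠ i₃ := by simp [i₁, i₃]
  have h23 : i₂ ≠ i₃ := by simp [i₂, i₃]
  have hpol := polar_plus_single (F := F) m
  have hQ : ∀ k, plusQ m F (Pi.single k 1) = 0 := by
    intro k
    rw [plusQ_coe]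
    rcases k with j | j <;> simp [Cfsg.quadFormPlus]
  have hpair : ∀ j, IsHPair (plusQ m F) (Pi.single (Sum.inl j) 1) (Pi.single (Sum.inr j) 1) :=
    fun j => ⟨hQ _, hQ _, by rw [(hpol _ j).1]; simp⟩
  refine ⟨{ e₁ := Pi.single (Sum.inl i₁) 1, f₁ := Pi.single (Sum.inr i₁) 1
            e₂ := Pi.single (Sum.inl i₂) 1, f₂ := Pi.single (Sum.inr i₂) 1
            a := Pi.single (Sum.inl i₃) 1 + Pi.single (Sum.inr i₃) 1
            pair₁ := hpair i₁, pair₂ := hpair i₂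
            e₁e₂ := ?_, e₁f₂ := ?_, f₁e₂ := ?_, f₁f₂ := ?_
            ae₁ := ?_, af₁ := ?_, ae₂ := ?_, af₂ := ?_, Qa := ?_ }⟩
  · rw [(hpol _ i₂).2]; simp
  · rw [(hpol _ i₂).1]; simp [h12.symm]
  · rw [(hpol _ i₂).2]; simp [h12.symm]
  · rw [(hpol _ i₂).1]; simp
  · rw [(hpol _ i₁).2]; simp [h13]
  · rw [(hpol _ i₁).1]; simp [h13]
  · rw [(hpol _ i₂).2]; simp [h23]
  · rw [(hpol _ i₂).1]; simp [h23]
  · rw [QuadraticMap.map_add (plusQ m F), hQ, hQ, (hpol _ i₃).1]; simp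

theorem minusQ_frame (m : ℕ) (hm : 2 ≤ m) (c d : F) : Nonempty (Frame (minusQ m F c d)) := by
  classical
  let i₁ : Fin m := ⟨0, by omega⟩
  let i₂ : Fin m := ⟨1, by omega⟩
  have h12 : i₁ ≠ i₂ := by simp [i₁, i₂]
  refine ⟨{ e₁ := Pi.single (Sum.inl (Sum.inl i₁)) 1, f₁ := Pi.single (Sum.inl (Sum.inr i₁)) 1
            e₂ := Pi.single (Sum.inl (Sum.inl i₂)) 1, f₂ := Pi.single (Sum.inl (Sum.inr i₂)) 1
            a := Pi.single (Sum.inr 0) 1
            pair₁ := ⟨?_, ?_, ?_⟩, pair₂ := ⟨?_, ?_, ?_⟩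
            e₁e₂ := ?_, e₁f₂ := ?_, f₁e₂ := ?_, f₁f₂ := ?_
            ae₁ := ?_, af₁ := ?_, ae₂ := ?_, af₂ := ?_, Qa := ?_ }⟩
  all_goals
    simp [QuadraticMap.polar, minusQ_coe, Cfsg.quadFormMinus, Pi.single_apply, mul_add, add_mul,
      Finset.sum_add_distrib, h12, h12.symm]

end CfsgLib.CharTwoInv
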