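import Cfsg.Prelude.Def_Classical
import Cfsg.Agent.Lib.CharTwoInv.Gauss

/-! The standard quadratic forms of `Def_Classical` in characteristic two, and conjugacy in their
isometry groups. -/

set_option autoImplicit false
set_option linter.style.haveILetI false

namespace CfsgLib.CharTwoInv

open QuadraticMap

variable {F : Type*} [Field F]

/-- A coordinate function. -/
abbrev coord {ι : Type} (i : ι) : (ι → F) →ₗ[F] F := LinearMap.proj i

/-- `quadFormPlus` as a quadratic form. -/
def plusQ (m : ℕ) (F : Type*) [Field F] : QuadraticForm F (Fin m ⊕ Fin m → F) :=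
  ∑ i : Fin m, QuadraticMap.linMulLin (coord (F := F) (Sum.inl i)) (coord (Sum.inr i))

theorem plusQ_coe (m : ℕ) : ⇑(plusQ m F) = Cfsg.quadFormPlus m F := by
  funext v
  simp [plusQ, Cfsg.quadFormPlus, QuadraticMap.linMulLin_apply]

/-- `quadFormMinus` as a quadratic form. -/
def minusQ (m : ℕ) (F : Type*) [Field F] (c d : F) :
    QuadraticForm F ((Fin m ⊕ Fin m) ⊕ Fin 2 → F) :=
  (∑ i : Fin m, QuadraticMap.linMulLin (coord (F := F) (Sum.inl (Sum.inl i))) (coord (Sum.inl (Sum.inr i))))
    + (QuadraticMap.linMulLin (coord (Sum.inr 0)) (coord (Sum.inr 0))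
      + c • QuadraticMap.linMulLin (coord (Sum.inr 0)) (coord (Sum.inr 1))
      + d • QuadraticMap.linMulLin (coord (Sum.inr 1)) (coord (Sum.inr 1)))

theorem minusQ_coe (m : ℕ) (c d : F) : ⇑(minusQ m F c d) = Cfsg.quadFormMinus m F c d := by
  funext v
  simp [minusQ, Cfsg.quadFormMinus, QuadraticMap.linMulLin_apply]
  ring

theorem polar_plus_single (m : ℕ) (v : Fin m ⊕ Fin m → F) (i : Fin m) :
    polar (plusQ m F) v (Pi.single (Sum.inr i) 1) = v (Sum.inl i) ∧
      polar (plusQ m F) v (Pi.single (Sum.inl i) 1) = v (Sum.inr i) := by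
  classical
  constructor <;>
  · rw [QuadraticMap.polar, plusQ_coe]
    simp only [Cfsg.quadFormPlus, ← Finset.sum_sub_distrib]
    rw [Finset.sum_eq_single i]
    · simp; ring
    · intro j _ hj; simp [hj]
    · simp

theorem plusQ_nondeg (m : ℕ) : (plusQ m F).polarBilin.Nondegenerate := by
  have h : ∀ x, (∀ y, polar (plusQ m F) x y = 0) → x = 0 := by
    intro x hx
    funext i
    rcases i with i | i
    · rw [← (polar_plus_single m x i).1, hx]; rfl
    · rw [← (polar_plus_single m x i).2, hx]; rfl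
  exact ⟨fun x hx => h x hx, fun x hx => h x fun y => by rw [QuadraticMap.polar_comm]; exact hx y⟩

theorem minusQ_nondeg [Fintype F] [CharP F 2] (m : ℕ) (c d : F)
    (hcd : ∀ z₁ z₂ : F, z₁ ^ 2 + c * z₁ * z₂ + d * z₂ ^ 2 = 0 → z₁ = 0 ∧ z₂ = 0) :
    (minusQ m F c d).polarBilin.Nondegenerate := by
  classical
  have hc : c ≠ 0 := by
    rintro rfl
    obtain ⟨s, hs⟩ := FiniteField.isSquare_of_char_two (ringChar.eq F 2) d
    have := hcd s 1 (by rw [hs]; ring_nf; linear_combination s * s * CharTwo.two_eq_zero (R := F))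
    exact one_ne_zero this.2
  have h : ∀ x, (∀ y, polar (minusQ m F c d) x y = 0) → x = 0 := by
    intro x hx
    funext k
    rcases k with (i | i) | k
    · have h1 := hx (Pi.single (Sum.inl (Sum.inr i)) 1)
      rw [QuadraticMap.polar, minusQ_coe] at h1
      simp [Cfsg.quadFormMinus, Pi.single_apply, mul_add, Finset.sum_add_distrib] at h1
      simpa using h1
    · have h1 := hx (Pi.single (Sum.inl (Sum.inl i)) 1)
      rw [QuadraticMap.polar, minusQ_coe] at h1
      simp [Cfsg.quadFormMinus, Pi.single_apply, add_mul, Finset.sum_add_distrib] at h1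
      simpa using h1
    · have h0 := hx (Pi.single (Sum.inr 0) 1)
      have h1 := hx (Pi.single (Sum.inr 1) 1)
      rw [QuadraticMap.polar, minusQ_coe] at h0 h1
      simp [Cfsg.quadFormMinus] at h0 h1
      have e1 : c * x (Sum.inr 1) = 0 := by
        linear_combination h0 - x (Sum.inr 0) * CharTwo.two_eq_zero (R := F)
      have e2 : c * x (Sum.inr 0) = 0 := by
        linear_combination h1 - d * x (Sum.inr 1) * CharTwo.two_eq_zero (R := F)
      fin_cases k
      · simpa using (mul_eq_zero.mp e2).resolve_left hc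
      · simpa using (mul_eq_zero.mp e1).resolve_left hc
  exact ⟨fun x hx => h x hx, fun x hx => h x fun y => by rw [QuadraticMap.polar_comm]; exact hx y⟩

variable {ι : Type} [Fintype ι] [DecidableEq ι]

/-- The linear automorphism of a matrix. -/
noncomputable def glAut (g : GL ι F) : (ι → F) ≃ₗ[F] (ι → F) :=
  LinearMap.GeneralLinearGroup.generalLinearEquiv F (ι → F)
    (Matrix.GeneralLinearGroup.toLin g)

theorem glAut_apply (g : GL ι F) (v : ι → F) :
    glAut g v = Matrix.mulVec (g : Matrix ι ι F) v := by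
  simp [glAut]

theorem mem_iso_iff {q : (ι → F) → F} (g : GL ι F) :
    g ∈ Cfsg.isometryGroup F q ↔ ∀ v, q (Matrix.mulVec (g : Matrix ι ι F) v) = q v :=
  ⟨fun h v => h v v, fun h u _ => h u⟩

theorem iso_conj_iff [Fintype F] [CharP F 2] (Q : QuadraticForm F (ι → F))
    (hQ : Q.polarBilin.Nondegenerate) (q : (ι → F) → F) (hq : ⇑Q = q)
    (t s : ↥(Cfsg.isometryGroup F q)) :
    IsConj t s ↔ ∃ g ∈ Cfsg.preserving (Units.coeHom (Matrix ι ι F))
      (fun u v => q (u + v) - q u - q v), g * (t : GL ι F) * g⁻¹ = (s : GL ι F) := by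
  subst hq
  constructor
  · intro h
    obtain ⟨g, hg⟩ := isConj_iff.mp h
    refine ⟨g, fun u v => ?_, by rw [← hg]; rfl⟩
    show Q (Matrix.mulVec _ u + Matrix.mulVec _ v) - Q (Matrix.mulVec _ u) - Q (Matrix.mulVec _ v) = _
    rw [← Matrix.mulVec_add, Units.coeHom_apply, (mem_iso_iff _).mp g.2, (mem_iso_iff _).mp g.2,
      (mem_iso_iff _).mp g.2]
  · rintro ⟨g, hg, hgts⟩
    have ht : ∀ v, Q (glAut (t : GL ι F) v) = Q v := fun v => by
      rw [glAut_apply]; exact (mem_iso_iff _).mp t.2 v
    have hs : ∀ v, Q (glAut (s : GL ι F) v) = Q v := fun v => by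
      rw [glAut_apply]; exact (mem_iso_iff _).mp s.2 v
    have hgts' : g * (t : GL ι F) = (s : GL ι F) * g := by rw [← hgts]; group
    obtain ⟨h, hh, hhts⟩ := conj_isometry_of_conj_polar Q hQ (glAut (t : GL ι F))
      (glAut (s : GL ι F)) ht hs (glAut g)
      (fun u v => by simp only [QuadraticMap.polar, glAut_apply]; exact hg u v)
      (fun v => by
        simp only [glAut_apply, Matrix.mulVec_mulVec, ← Units.val_mul, hgts'])
    let M : GL ι F := Matrix.GeneralLinearGroup.toLin.symm
      ((LinearMap.GeneralLinearGroup.generalLinearEquiv F (ι → F)).symm h)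
    have hM : ∀ v, Matrix.mulVec (M : Matrix ι ι F) v = h v := fun v => by
      rw [← glAut_apply]; simp [glAut, M]
    refine isConj_iff.mpr ⟨⟨M, (mem_iso_iff _).mpr fun v => by rw [hM]; exact hh v⟩, ?_⟩
    rw [mul_inv_eq_iff_eq_mul]
    apply Subtype.ext
    apply Units.ext
    show (M : Matrix ι ι F) * ((t : GL ι F) : Matrix ι ι F) =
      ((s : GL ι F) : Matrix ι ι F) * (M : Matrix ι ι F)
    apply Matrix.toLin'.injective
    refine LinearMap.ext fun v => ?_
    simp only [Matrix.toLin'_apply, ← Matrix.mulVec_mulVec, hM]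
    rw [← glAut_apply, hhts, glAut_apply]

end CfsgLib.CharTwoInv
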