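import Mathlib

/-! Non-degenerate symmetric or hermitian forms in characteristic two over a field in which every
fixed element is a norm: the dimension and alternation determine the form. -/

set_option autoImplicit false
set_option linter.style.haveILetI false

namespace CfsgLib.CharTwoInv

universe u

variable {F : Type*} [Field F] [CharP F 2] {σ : F →+* F}

/-- Symmetry of a sesquilinear form. -/
def SesqSymm {W : Type*} [AddCommGroup W] [Module F W] (β : W →ₛₗ[σ] W →ₗ[F] F) : Prop :=
  ∀ x y, σ (β x y) = β y x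

/-- Trivial radical. -/
def SesqNondeg {W : Type*} [AddCommGroup W] [Module F W] (β : W →ₛₗ[σ] W →ₗ[F] F) : Prop :=
  ∀ y, (∀ x, β x y = 0) → y = 0

theorem sesq_symm_zero {W : Type*} [AddCommGroup W] [Module F W] {β : W →ₛₗ[σ] W →ₗ[F] F}
    (hs : SesqSymm β) {x y : W} (h : β x y = 0) : β y x = 0 := by
  rw [← hs x y, h, map_zero]

/-- Restriction to a subspace. -/
def sesqRestrict {W : Type*} [AddCommGroup W] [Module F W] (β : W →ₛₗ[σ] W →ₗ[F] F)
    (K : Submodule F W) : K →ₛₗ[σ] K →ₗ[F] F :=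
  LinearMap.mk₂'ₛₗ σ (RingHom.id F) (fun x y => β (x : W) (y : W))
    (fun x y z => by simp) (fun c x y => by simp) (fun x y z => by simp) (fun c x y => by simp)

@[simp] theorem sesqRestrict_apply {W : Type*} [AddCommGroup W] [Module F W]
    (β : W →ₛₗ[σ] W →ₗ[F] F) (K : Submodule F W) (x y : K) :
    sesqRestrict β K x y = β (x : W) (y : W) := rfl

theorem sesqRestrict_symm {W : Type*} [AddCommGroup W] [Module F W] {β : W →ₛₗ[σ] W →ₗ[F] F}
    (hs : SesqSymm β) (K : Submodule F W) : SesqSymm (sesqRestrict β K) := fun x y => hs _ _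

/-- Split off a vector of norm one. -/
theorem split_one {W : Type*} [AddCommGroup W] [Module F W] [FiniteDimensional F W]
    {β : W →ₛₗ[σ] W →ₗ[F] F} (hs : SesqSymm β) (hn : SesqNondeg β) {v : W} (hv : β v v = 1) :
    SesqNondeg (sesqRestrict β (LinearMap.ker (β v))) ∧
      ∃ e : (F × ↥(LinearMap.ker (β v))) ≃ₗ[F] W, ∀ p q,
        β (e p) (e q) = σ p.1 * q.1 + β (p.2 : W) (q.2 : W) := by
  have hproj : ∀ z, z - β v z • v ∈ LinearMap.ker (β v) := fun z => by
    rw [LinearMap.mem_ker, map_sub, map_smul, hv, smul_eq_mul, mul_one, sub_self]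
  refine ⟨fun y hy => Subtype.ext (hn _ fun z => ?_), ?_⟩
  · have h0 : β v (y : W) = 0 := y.2
    have h := hy ⟨_, hproj z⟩
    rw [sesqRestrict_apply] at h
    simpa [h0] using h
  let φ : (F × ↥(LinearMap.ker (β v))) →ₗ[F] W :=
    LinearMap.coprod (LinearMap.toSpanSingleton F W v) (LinearMap.ker (β v)).subtype
  have hφ : ∀ p, φ p = p.1 • v + (p.2 : W) := fun p => rfl
  have hinj : Function.Injective φ := by
    rw [← LinearMap.ker_eq_bot, LinearMap.ker_eq_bot']
    rintro ⟨c, x⟩ h
    rw [hφ] at h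
    have hx : β v (x : W) = 0 := x.2
    have hc : c = 0 := by simpa [hv, hx] using congrArg (β v) h
    subst hc
    simp only [zero_smul, zero_add] at h
    simp only [Prod.mk_eq_zero]
    exact ⟨trivial, Subtype.ext h⟩
  have hsurj : Function.Surjective φ := fun z =>
    ⟨(β v z, ⟨_, hproj z⟩), by rw [hφ]; dsimp only; module⟩
  refine ⟨LinearEquiv.ofBijective φ ⟨hinj, hsurj⟩, fun p q => ?_⟩
  have h1 : β v (q.2 : W) = 0 := q.2.2
  have h2 : β (p.2 : W) v = 0 := sesq_symm_zero hs p.2.2
  show β (φ p) (φ q) = _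
  rw [hφ, hφ]
  simp [hv, h1, h2]

/-- Split off a hyperbolic pair. -/
theorem split_pair {W : Type*} [AddCommGroup W] [Module F W] [FiniteDimensional F W]
    {β : W →ₛₗ[σ] W →ₗ[F] F} (hs : SesqSymm β) (hn : SesqNondeg β) {v w : W} (hvv : β v v = 0)
    (hww : β w w = 0) (hvw : β v w = 1) :
    SesqNondeg (sesqRestrict β (LinearMap.ker (β v) ⊓ LinearMap.ker (β w))) ∧
      ∃ e : (F × F × ↥(LinearMap.ker (β v) ⊓ LinearMap.ker (β w))) ≃ₗ[F] W, ∀ p q,
        β (e p) (e q) = σ p.1 * q.2.1 + σ p.2.1 * q.1 + β (p.2.2 : W) (q.2.2 : W) := by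
  have hwv : β w v = 1 := by rw [← hs v w, hvw, map_one]
  have hproj : ∀ z, z - β w z • v - β v z • w ∈ LinearMap.ker (β v) ⊓ LinearMap.ker (β w) :=
    fun z => by
      simp only [Submodule.mem_inf, LinearMap.mem_ker, map_sub, map_smul, smul_eq_mul, hvv, hww,
        hvw, hwv]
      constructor <;> ring
  refine ⟨fun y hy => Subtype.ext (hn _ fun z => ?_), ?_⟩
  · have h0 : β v (y : W) = 0 := y.2.1
    have h1 : β w (y : W) = 0 := y.2.2
    have h := hy ⟨_, hproj z⟩
    rw [sesqRestrict_apply] at h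
    simpa [h0, h1] using h
  let φ : (F × F × ↥(LinearMap.ker (β v) ⊓ LinearMap.ker (β w))) →ₗ[F] W :=
    LinearMap.coprod (LinearMap.toSpanSingleton F W v) (LinearMap.coprod
      (LinearMap.toSpanSingleton F W w) (LinearMap.ker (β v) ⊓ LinearMap.ker (β w)).subtype)
  have hφ : ∀ p, φ p = p.1 • v + (p.2.1 • w + (p.2.2 : W)) := fun p => rfl
  have hinj : Function.Injective φ := by
    rw [← LinearMap.ker_eq_bot, LinearMap.ker_eq_bot']
    rintro ⟨c, d, x⟩ h
    rw [hφ] at h
    have hx1 : β v (x : W) = 0 := x.2.1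
    have hx2 : β w (x : W) = 0 := x.2.2
    have hd : d = 0 := by simpa [hvv, hvw, hx1] using congrArg (β v) h
    have hc : c = 0 := by simpa [hwv, hww, hx2] using congrArg (β w) h
    subst hc hd
    simp only [zero_smul, zero_add] at h
    simp only [Prod.mk_eq_zero]
    exact ⟨trivial, trivial, Subtype.ext h⟩
  have hsurj : Function.Surjective φ := fun z =>
    ⟨(β w z, β v z, ⟨_, hproj z⟩), by rw [hφ]; dsimp only; module⟩
  refine ⟨LinearEquiv.ofBijective φ ⟨hinj, hsurj⟩, fun p q => ?_⟩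
  have h1 : β v (q.2.2 : W) = 0 := q.2.2.2.1
  have h2 : β w (q.2.2 : W) = 0 := q.2.2.2.2
  have h3 : β (p.2.2 : W) v = 0 := sesq_symm_zero hs p.2.2.2.1
  have h4 : β (p.2.2 : W) w = 0 := sesq_symm_zero hs p.2.2.2.2
  show β (φ p) (φ q) = _
  rw [hφ, hφ]
  simp [hvv, hww, hvw, hwv, h1, h2, h3, h4]
  ring

/-- A norm-one vector with non-alternating (or zero) orthogonal complement. -/
theorem exists_good_vector {W : Type*} [AddCommGroup W] [Module F W] [FiniteDimensional F W]
    (hnorm : ∀ c : F, σ c = c → c ≠ 0 → ∃ a, σ a * a = c)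
    {β : W →ₛₗ[σ] W →ₗ[F] F} (hs : SesqSymm β) (hn : SesqNondeg β) (hna : ∃ x, β x x ≠ 0) :
    ∃ v, β v v = 1 ∧ ((∀ x : ↥(LinearMap.ker (β v)), β (x : W) (x : W) = 0) →
      ∀ x : ↥(LinearMap.ker (β v)), x = 0) := by
  obtain ⟨z, hz⟩ := hna
  obtain ⟨a, ha⟩ := hnorm (β z z)⁻¹ (by rw [map_inv₀, hs]) (inv_ne_zero hz)
  have hv : β (a • z) (a • z) = 1 := by
    simp only [LinearMap.map_smulₛₗ, LinearMap.smul_apply, smul_eq_mul, RingHom.id_apply]
    linear_combination (β z z) * ha + inv_mul_cancel₀ hz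
  set v := a • z
  by_cases hcase : (∀ x : ↥(LinearMap.ker (β v)), β (x : W) (x : W) = 0) ∧
      ∃ x : ↥(LinearMap.ker (β v)), x ≠ 0
  swap
  · exact ⟨_, hv, fun h x => by_contra fun hx => hcase ⟨h, x, hx⟩⟩
  obtain ⟨halt, x₀, hx₀⟩ := hcase
  obtain ⟨y, hy⟩ : ∃ y : ↥(LinearMap.ker (β v)), β (y : W) (x₀ : W) ≠ 0 := by
    by_contra hcon
    push Not at hcon
    exact hx₀ ((split_one hs hn hv).1 x₀ hcon)
  set x : W := (β (y : W) (x₀ : W))⁻¹ • (x₀ : W) with hx
  have hx' : x ∈ LinearMap.ker (β v) := Submodule.smul_mem _ _ x₀.2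
  have hvx : β v x = 0 := hx'
  have hvy : β v (y : W) = 0 := y.2
  have hxx : β x x = 0 := halt ⟨x, hx'⟩
  have hyy : β (y : W) (y : W) = 0 := halt y
  have hyx : β (y : W) x = 1 := by rw [hx, map_smul, smul_eq_mul, inv_mul_cancel₀ hy]
  have hxy : β x (y : W) = 1 := by rw [← hs (y : W) x, hyx, map_one]
  refine ⟨v + x, ?_, fun h => ?_⟩
  · simp [hv, hvx, hxx, sesq_symm_zero hs hvx]
  · exfalso
    have hu : v + (y : W) ∈ LinearMap.ker (β (v + x)) := by
      simp [hv, hvy, hxy, sesq_symm_zero hs hvx, CharTwo.add_self_eq_zero]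
    have := h ⟨_, hu⟩
    simp [hv, hvy, hyy, sesq_symm_zero hs hvy] at this

/-- Classification: dimension and alternation determine a non-degenerate form up to isometry. -/
theorem exists_sesq_isometry (hnorm : ∀ c : F, σ c = c → c ≠ 0 → ∃ a, σ a * a = c) :
    ∀ (n : ℕ) {W W' : Type u} [AddCommGroup W] [Module F W] [FiniteDimensional F W]
      [AddCommGroup W'] [Module F W'] [FiniteDimensional F W']
      (β : W →ₛₗ[σ] W →ₗ[F] F) (β' : W' →ₛₗ[σ] W' →ₗ[F] F),
      SesqSymm β → SesqNondeg β → SesqSymm β' → SesqNondeg β' →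
      Module.finrank F W = n → Module.finrank F W' = n →
      ((∀ x, β x x = 0) ↔ ∀ x, β' x x = 0) →
      ∃ φ : W ≃ₗ[F] W', ∀ x y, β' (φ x) (φ y) = β x y := by
  intro n
  induction n using Nat.strong_induction_on with
  | _ n ih =>
    intro W W' _ _ _ _ _ _ β β' hs hn hs' hn' hd hd' halt
    rcases Nat.eq_zero_or_pos n with rfl | hpos
    · haveI : Subsingleton W := Module.finrank_zero_iff.mp hd
      haveI : Subsingleton W' := Module.finrank_zero_iff.mp hd'
      refine ⟨LinearEquiv.ofFinrankEq W W' (hd.trans hd'.symm), fun x y => ?_⟩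
      rw [Subsingleton.elim x 0, Subsingleton.elim y 0]; simp
    by_cases ha : ∀ x, β x x = 0
    · have ha' := halt.mp ha
      have hpair : ∀ {X : Type u} [AddCommGroup X] [Module F X] [FiniteDimensional F X]
          (γ : X →ₛₗ[σ] X →ₗ[F] F), SesqNondeg γ → Module.finrank F X = n → ∃ v w, γ v w = 1 := by
        intro X _ _ _ γ hγ hX
        haveI : Nontrivial X := Module.nontrivial_of_finrank_pos (R := F) (by omega)
        obtain ⟨y, hy⟩ := exists_ne (0 : X)
        obtain ⟨x, hx⟩ : ∃ x, γ x y ≠ 0 := by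
          by_contra hcon; push Not at hcon; exact hy (hγ y hcon)
        exact ⟨x, (γ x y)⁻¹ • y, by rw [map_smul, smul_eq_mul, inv_mul_cancel₀ hx]⟩
      obtain ⟨v, w, hvw⟩ := hpair β hn hd
      obtain ⟨v', w', hvw'⟩ := hpair β' hn' hd'
      obtain ⟨hK, e, he⟩ := split_pair hs hn (ha v) (ha w) hvw
      obtain ⟨hK', e', he'⟩ := split_pair hs' hn' (ha' v') (ha' w') hvw'
      have hd1 := e.finrank_eq
      have hd2 := e'.finrank_eq
      rw [Module.finrank_prod, Module.finrank_prod, Module.finrank_self, hd] at hd1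
      rw [Module.finrank_prod, Module.finrank_prod, Module.finrank_self, hd'] at hd2
      obtain ⟨φ, hφ⟩ := ih (n - 2) (by omega) _ _ (sesqRestrict_symm hs _) hK
        (sesqRestrict_symm hs' _) hK' (by omega) (by omega)
        (iff_of_true (fun x => ha _) (fun x => ha' _))
      refine ⟨e.symm.trans (((LinearEquiv.refl F F).prodCongr
        ((LinearEquiv.refl F F).prodCongr φ)).trans e'), fun x y => ?_⟩
      obtain ⟨p, rfl⟩ := e.surjective x
      obtain ⟨q, rfl⟩ := e.surjective y
      simp only [LinearEquiv.trans_apply, LinearEquiv.symm_apply_apply]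
      rw [he', he]
      simp only [LinearEquiv.prodCongr_apply, LinearEquiv.refl_apply]
      congr 1
      exact hφ p.2.2 q.2.2
    · have ha' : ¬ ∀ x, β' x x = 0 := fun h => ha (halt.mpr h)
      push Not at ha ha'
      obtain ⟨v, hv, hvK⟩ := exists_good_vector hnorm hs hn ha
      obtain ⟨v', hv', hvK'⟩ := exists_good_vector hnorm hs' hn' ha'
      obtain ⟨hK, e, he⟩ := split_one hs hn hv
      obtain ⟨hK', e', he'⟩ := split_one hs' hn' hv'
      have hd1 := e.finrank_eq
      have hd2 := e'.finrank_eq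
      rw [Module.finrank_prod, Module.finrank_self, hd] at hd1
      rw [Module.finrank_prod, Module.finrank_self, hd'] at hd2
      have hiff : ∀ {X : Type u} [AddCommGroup X] [Module F X] [FiniteDimensional F X]
          (γ : X →ₛₗ[σ] X →ₗ[F] F), ((∀ x, γ x x = 0) → ∀ x : X, x = 0) →
          ((∀ x, γ x x = 0) ↔ Module.finrank F X = 0) := by
        intro X _ _ _ γ h
        constructor
        · intro hall
          rw [Module.finrank_zero_iff]
          exact ⟨fun a b => (h hall a).trans (h hall b).symm⟩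
        · intro h0 x
          haveI : Subsingleton X := Module.finrank_zero_iff.mp h0
          rw [Subsingleton.elim x 0]; simp
      obtain ⟨φ, hφ⟩ := ih (n - 1) (by omega) _ _ (sesqRestrict_symm hs _) hK
        (sesqRestrict_symm hs' _) hK' (by omega) (by omega)
        (by rw [hiff (sesqRestrict β _) hvK, hiff (sesqRestrict β' _) hvK',
              show Module.finrank F ↥(LinearMap.ker (β v)) = n - 1 by omega,
              show Module.finrank F ↥(LinearMap.ker (β' v')) = n - 1 by omega])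
      refine ⟨e.symm.trans (((LinearEquiv.refl F F).prodCongr φ).trans e'), fun x y => ?_⟩
      obtain ⟨p, rfl⟩ := e.surjective x
      obtain ⟨q, rfl⟩ := e.surjective y
      simp only [LinearEquiv.trans_apply, LinearEquiv.symm_apply_apply]
      rw [he', he]
      simp only [LinearEquiv.prodCongr_apply, LinearEquiv.refl_apply]
      congr 1
      exact hφ p.2 q.2

end CfsgLib.CharTwoInv
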