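import Cfsg.Agent.Lib.CharTwoInv.SesqClassify
import Cfsg.Agent.Lib.Forms.Witt

/-! Self-adjoint square-zero maps of a sesquilinear space up to isometry. -/

set_option autoImplicit false
set_option linter.style.haveILetI false

namespace CfsgLib.CharTwoInv

open CfsgLib.CharTwoInv

variable {F : Type*} [Field F] [CharP F 2] {σ : F →+* F}
variable {V : Type*} [AddCommGroup V] [Module F V] [FiniteDimensional F V]

/-- The space on which `N` lives: a form, its radical-freeness and symmetry. -/
structure SelfAdjNil (B : V →ₛₗ[σ] V →ₗ[F] F) (N : V →ₗ[F] V) : Prop where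
  sq : ∀ x, N (N x) = 0
  adj : ∀ x y, B (N x) y = B x (N y)

/-- An isotropic section of `N`, together with the form it induces on the image. -/
structure IsoSection (B : V →ₛₗ[σ] V →ₗ[F] F) (N : V →ₗ[F] V) where
  s : ↥(LinearMap.range N) →ₗ[F] V
  form : ↥(LinearMap.range N) →ₛₗ[σ] ↥(LinearMap.range N) →ₗ[F] F
  right : ∀ a, N (s a) = (a : V)
  iso : ∀ a b, B (s a) (s b) = 0
  form_eq : ∀ a b, form a b = B (s a) (b : V)
  symm : SesqSymm form
  nondeg : SesqNondeg form

theorem selfAdj_range_orth {B : V →ₛₗ[σ] V →ₗ[F] F} {N : V →ₗ[F] V} (h : SelfAdjNil B N)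
    {k : V} (hk : N k = 0) (a : ↥(LinearMap.range N)) : B k (a : V) = 0 := by
  obtain ⟨x, hx⟩ := a.2
  rw [← hx, ← h.adj, hk]; simp

theorem selfAdj_isotropic {B : V →ₛₗ[σ] V →ₗ[F] F} {N : V →ₗ[F] V} (h : SelfAdjNil B N)
    (a b : ↥(LinearMap.range N)) : B (a : V) (b : V) = 0 := by
  refine selfAdj_range_orth h ?_ b
  obtain ⟨x, hx⟩ := a.2
  rw [← hx, h.sq]

theorem exists_isoSection {B : V →ₛₗ[σ] V →ₗ[F] F} (hB : SesqSymm B) (hBn : SesqNondeg B)
    (hσ2 : ∀ a, σ (σ a) = a) (htr : ∀ x, ∃ t : F, t + σ t = B x x) {N : V →ₗ[F] V}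
    (h : SelfAdjNil B N) : Nonempty (IsoSection B N) := by
  classical
  obtain ⟨s, hs⟩ := N.rangeRestrict.exists_rightInverse_of_surjective N.range_rangeRestrict
  have hs' : ∀ a : LinearMap.range N, N (s a) = (a : V) := fun a => by
    have := congrArg (fun f => ((f a : LinearMap.range N) : V)) hs
    simpa using this
  have hWs : ∀ (a b : LinearMap.range N), B (a : V) (s b) = B (s a) (b : V) := by
    intro a b
    rw [← hs' b, ← h.adj, hs']
  let β : ↥(LinearMap.range N) →ₛₗ[σ] ↥(LinearMap.range N) →ₗ[F] F :=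
    LinearMap.mk₂'ₛₗ σ (RingHom.id F) (fun a b => B (s a) (b : V))
      (fun x y z => by simp) (fun c x y => by simp) (fun x y z => by simp) (fun c x y => by simp)
  have hβ : ∀ a b, β a b = B (s a) (b : V) := fun a b => rfl
  have hβs : SesqSymm β := fun a b => by rw [hβ, hβ, hB, hWs]
  have hβn : SesqNondeg β := fun b hb => by
    refine Subtype.ext (hBn _ fun x => ?_)
    let a : LinearMap.range N := ⟨N x, LinearMap.mem_range_self N x⟩
    have h1 : B (x - s a) (b : V) = 0 :=
      selfAdj_range_orth h (by rw [map_sub, hs']; exact sub_self _) b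
    have h2 : B (s a) (b : V) = 0 := hb a
    rw [map_sub, LinearMap.sub_apply, h2, sub_zero] at h1
    exact h1
  let e := Module.finBasis F ↥(LinearMap.range N)
  let ev : ↥(LinearMap.range N) →ₗ[F] (Fin (Module.finrank F ↥(LinearMap.range N)) → F) :=
    LinearMap.pi fun i => β (e i)
  have hev : Function.Surjective ev := by
    rw [← LinearMap.injective_iff_surjective_of_finrank_eq_finrank (by simp)]
    rw [← LinearMap.ker_eq_bot, LinearMap.ker_eq_bot']
    intro c hc
    refine hβn c fun x => ?_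
    have h0 : β.flip c = 0 := e.ext fun i => by simpa [ev] using congrFun hc i
    simpa using LinearMap.congr_fun h0 x
  choose t ht using fun i => htr (s (e i))
  let D : Fin (Module.finrank F ↥(LinearMap.range N)) →
      Fin (Module.finrank F ↥(LinearMap.range N)) → F :=
    fun i j => if i < j then B (s (e i)) (s (e j)) else if i = j then t i else 0
  choose c hc using fun j => hev (fun i => D i j)
  let C : ↥(LinearMap.range N) →ₗ[F] ↥(LinearMap.range N) := e.constr F c
  have hC : ∀ i j, β (e i) (C (e j)) = D i j := fun i j => by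
    rw [show C (e j) = c j from e.constr_basis F c j]
    exact congrFun (hc j) i
  have hsum : ∀ a b, B (s a) (s b) + β a (C b) + β (C a) b = 0 := by
    let γ : ↥(LinearMap.range N) →ₛₗ[σ] ↥(LinearMap.range N) →ₗ[F] F :=
      LinearMap.mk₂'ₛₗ σ (RingHom.id F) (fun a b => B (s a) (s b) + β a (C b) + β (C a) b)
        (fun x y z => by simp only [map_add, LinearMap.add_apply]; ring)
        (fun r x y => by
          simp only [LinearMap.map_smulₛₗ, LinearMap.smul_apply, smul_eq_mul, RingHom.id_apply]; ring)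
        (fun x y z => by simp only [map_add]; ring)
        (fun r x y => by simp only [map_smul, smul_eq_mul, RingHom.id_apply]; ring)
    have hγ : γ = 0 := by
      refine e.ext fun i => e.ext fun j => ?_
      show B (s (e i)) (s (e j)) + β (e i) (C (e j)) + β (C (e i)) (e j) = 0
      rw [hC, ← hβs (e j) (C (e i)), hC]
      rcases lt_trichotomy i j with hij | hij | hij
      · simp [D, hij, not_lt.mpr hij.le, hij.ne', CharTwo.add_self_eq_zero]
      · subst hij
        simp only [D, lt_irrefl, if_false, if_true]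
        rw [add_assoc, ht, CharTwo.add_self_eq_zero]
      · simp only [D, hij, not_lt.mpr hij.le, hij.ne', if_true, if_false, add_zero]
        rw [hB, CharTwo.add_self_eq_zero]
    intro a b
    exact LinearMap.congr_fun (LinearMap.congr_fun hγ a) b
  refine ⟨{ s := s + (LinearMap.range N).subtype ∘ₗ C
            form := β
            right := fun a => ?_
            iso := fun a b => ?_
            form_eq := fun a b => ?_
            symm := hβs
            nondeg := hβn }⟩
  · show N (s a + (C a : V)) = (a : V)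
    obtain ⟨x, hx⟩ := (C a).2
    rw [map_add, hs', ← hx, h.sq, add_zero]
  · show B (s a + (C a : V)) (s b + (C b : V)) = 0
    rw [map_add, map_add, LinearMap.add_apply, LinearMap.add_apply, selfAdj_isotropic h, add_zero,
      hWs, ← hβ, ← hβ]
    linear_combination hsum a b
  · show β a b = B (s a + (C a : V)) (b : V)
    rw [map_add, LinearMap.add_apply, selfAdj_isotropic h, add_zero]
    rfl

/-- The parametrisation of the span of the section and the image. -/
def IsoSection.tau {B : V →ₛₗ[σ] V →ₗ[F] F} {N : V →ₗ[F] V} (S : IsoSection B N) :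
    (↥(LinearMap.range N) × ↥(LinearMap.range N)) →ₗ[F] V :=
  LinearMap.coprod S.s (LinearMap.range N).subtype

theorem IsoSection.tau_injective {B : V →ₛₗ[σ] V →ₗ[F] F} {N : V →ₗ[F] V} (h : SelfAdjNil B N)
    (S : IsoSection B N) : Function.Injective S.tau := by
  rw [← LinearMap.ker_eq_bot, LinearMap.ker_eq_bot']
  rintro ⟨a, b⟩ hab
  change S.s a + (b : V) = 0 at hab
  have hb : N (b : V) = 0 := by obtain ⟨x, hx⟩ := b.2; rw [← hx, h.sq]
  have ha : (a : V) = 0 := by
    have := congrArg N hab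
    rwa [map_add, S.right, hb, add_zero, map_zero] at this
  have ha' : a = 0 := Subtype.ext ha
  subst ha'
  rw [map_zero, zero_add] at hab
  exact Prod.ext rfl (Subtype.ext hab)

theorem IsoSection.tau_form {B : V →ₛₗ[σ] V →ₗ[F] F} {N : V →ₗ[F] V} (h : SelfAdjNil B N)
    (S : IsoSection B N) (p q : ↥(LinearMap.range N) × ↥(LinearMap.range N)) :
    B (S.tau p) (S.tau q) = S.form p.1 q.2 + S.form p.2 q.1 := by
  show B (S.s p.1 + (p.2 : V)) (S.s q.1 + (q.2 : V)) = _
  rw [map_add, map_add, LinearMap.add_apply, LinearMap.add_apply, S.iso, selfAdj_isotropic h,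
    S.form_eq, S.form_eq, ← S.right q.1, ← h.adj, S.right]
  ring

/-- An isometry of the induced forms extends to an isometry intertwining the maps. -/
theorem IsoSection.lift {B : V →ₛₗ[σ] V →ₗ[F] F} (hBn : SesqNondeg B)
    (hWitt : ∀ (X : Submodule F V) (f : V →ₗ[F] V), (∀ x ∈ X, ∀ y ∈ X, B (f x) (f y) = B x y) →
      (∀ x ∈ X, f x = 0 → x = 0) →
      ∃ g : V ≃ₗ[F] V, (∀ x y, B (g x) (g y) = B x y) ∧ ∀ x ∈ X, g x = f x)
    (hB : SesqSymm B)
    {N N' : V →ₗ[F] V} (h : SelfAdjNil B N) (h' : SelfAdjNil B N')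
    (S : IsoSection B N) (S' : IsoSection B N')
    (φ : ↥(LinearMap.range N) ≃ₗ[F] ↥(LinearMap.range N'))
    (hφ : ∀ x y, S'.form (φ x) (φ y) = S.form x y) :
    ∃ g : V ≃ₗ[F] V, (∀ x y, B (g x) (g y) = B x y) ∧ (∀ x, g (N x) = N' (g x)) ∧
      ∀ p, g (S.tau p) = S'.tau (φ p.1, φ p.2) := by
  obtain ⟨L, hL⟩ := S.tau.exists_leftInverse_of_injective
    (LinearMap.ker_eq_bot.mpr (S.tau_injective h))
  have hL' : ∀ p, L (S.tau p) = p := fun p => LinearMap.congr_fun hL p
  let f : V →ₗ[F] V := S'.tau ∘ₗ (φ.prodCongr φ).toLinearMap ∘ₗ L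
  have hf : ∀ p, f (S.tau p) = S'.tau (φ p.1, φ p.2) := fun p => by
    simp [f, hL']
  obtain ⟨g, hg, hgX⟩ := hWitt (LinearMap.range S.tau) f
    (by
      rintro _ ⟨p, rfl⟩ _ ⟨q, rfl⟩
      rw [hf, hf, S'.tau_form h', S.tau_form h, hφ, hφ])
    (by
      rintro _ ⟨p, rfl⟩ hp
      rw [hf, ← map_zero S'.tau] at hp
      have hp' := S'.tau_injective h' hp
      simp only [Prod.mk_eq_zero, LinearEquiv.map_eq_zero_iff] at hp'
      rw [show p = 0 from Prod.ext hp'.1 hp'.2, map_zero])
  have hgt : ∀ p, g (S.tau p) = S'.tau (φ p.1, φ p.2) := fun p => by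
    rw [hgX _ (LinearMap.mem_range_self _ p), hf]
  have hgW : ∀ a : LinearMap.range N, g (a : V) = (φ a : V) := fun a => by
    have := hgt (0, a)
    simpa [IsoSection.tau] using this
  refine ⟨g, hg, fun x => ?_, hgt⟩
  set a : LinearMap.range N := ⟨N x, LinearMap.mem_range_self N x⟩
  set k := x - S.s a with hk
  have hk0 : N k = 0 := by rw [hk, map_sub, S.right]; exact sub_self _
  have hsa : N' (g (S.s a)) = (φ a : V) := by
    have := hgt (a, 0)
    have e1 : S.tau (a, 0) = S.s a := by simp [IsoSection.tau]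
    have e2 : S'.tau (φ a, φ 0) = S'.s (φ a) := by simp [IsoSection.tau]
    rw [e1, e2] at this
    rw [this, S'.right]
  have hgk : N' (g k) = 0 := by
    refine hBn _ fun y => ?_
    obtain ⟨b, hb⟩ := φ.surjective ⟨N' y, LinearMap.mem_range_self N' y⟩
    have e : N' y = g (b : V) := by rw [hgW, hb]
    rw [← h'.adj, e, hg]
    exact sesq_symm_zero hB (selfAdj_range_orth h hk0 b)
  have hx : x = S.s a + k := by rw [hk]; abel
  calc g (N x) = (φ a : V) := hgW a
    _ = N' (g x) := by rw [hx, map_add, map_add, hsa, hgk, add_zero]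

/-- Two self-adjoint square-zero maps with the same rank and alternation are isometric. -/
theorem exists_selfAdj_conj {B : V →ₛₗ[σ] V →ₗ[F] F} (hB : SesqSymm B) (hBn : SesqNondeg B)
    (hσ2 : ∀ a, σ (σ a) = a) (htr : ∀ x, ∃ t : F, t + σ t = B x x)
    (hnorm : ∀ c : F, σ c = c → c ≠ 0 → ∃ a, σ a * a = c)
    (hWitt : ∀ (X : Submodule F V) (f : V →ₗ[F] V), (∀ x ∈ X, ∀ y ∈ X, B (f x) (f y) = B x y) →
      (∀ x ∈ X, f x = 0 → x = 0) →
      ∃ g : V ≃ₗ[F] V, (∀ x y, B (g x) (g y) = B x y) ∧ ∀ x ∈ X, g x = f x)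
    {N N' : V →ₗ[F] V} (h : SelfAdjNil B N) (h' : SelfAdjNil B N')
    (hr : Module.finrank F (LinearMap.range N) = Module.finrank F (LinearMap.range N'))
    (halt : (∀ v, B v (N v) = 0) ↔ ∀ v, B v (N' v) = 0) :
    ∃ g : V ≃ₗ[F] V, (∀ x y, B (g x) (g y) = B x y) ∧ ∀ x, g (N x) = N' (g x) := by
  obtain ⟨S⟩ := exists_isoSection hB hBn hσ2 htr h
  obtain ⟨S'⟩ := exists_isoSection hB hBn hσ2 htr h'
  have key : ∀ (M : V →ₗ[F] V) (hM : SelfAdjNil B M) (T : IsoSection B M),
      (∀ a, T.form a a = 0) ↔ ∀ v, B v (M v) = 0 := by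
    intro M hM T
    constructor
    · intro hall v
      let a : LinearMap.range M := ⟨M v, LinearMap.mem_range_self M v⟩
      have h1 : B (v - T.s a) (a : V) = 0 :=
        selfAdj_range_orth hM (by rw [map_sub, T.right]; exact sub_self _) a
      have h2 : B (T.s a) (a : V) = 0 := (T.form_eq a a).symm.trans (hall a)
      rw [map_sub, LinearMap.sub_apply, h2, sub_zero] at h1
      exact h1
    · intro hall a
      rw [T.form_eq, ← T.right a]
      exact hall _
  obtain ⟨φ, hφ⟩ := exists_sesq_isometry hnorm _ S.form S'.form S.symm S.nondeg S'.symm S'.nondeg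
    rfl hr.symm (by rw [key N h S, key N' h' S', halt])
  obtain ⟨g, hg, hgN, -⟩ := IsoSection.lift hBn hWitt hB h h' S S' φ hφ
  exact ⟨g, hg, hgN⟩

end CfsgLib.CharTwoInv
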