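import Cfsg.Agent.Lib.CharTwoInv.MaxSingular

/-! Splitting of involution classes from `O` to `Omega` in characteristic two. -/

set_option autoImplicit false
set_option linter.style.haveILetI false

namespace CfsgLib.CharTwoInv

open QuadraticMap Module
open CfsgLib.Classical.Quad (Frame NDPolar Orth fixSpace refl refl_apply isometryGroupEquiv
  isometryGroupEquiv_apply)

variable {F : Type*} [Field F] [Fintype F] [CharP F 2] {ι : Type} [Fintype ι] [DecidableEq ι]
variable {Q : QuadraticForm F (ι → F)}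

/-- `t - 1` as a linear map. -/
noncomputable abbrev subOne (t : ↥(Cfsg.isometryGroup F ⇑Q)) : (ι → F) →ₗ[F] (ι → F) :=
  Matrix.toLin' (((t : GL ι F) : Matrix ι ι F) - 1)

omit [Fintype F] [CharP F 2] in
theorem subOne_apply (t : ↥(Cfsg.isometryGroup F ⇑Q)) (x : ι → F) :
    subOne t x = (isometryGroupEquiv Q (Qf := ⇑Q) (fun _ => rfl) t).1 x - x := by
  rw [isometryGroupEquiv_apply, subOne, Matrix.toLin'_apply, Matrix.sub_mulVec, Matrix.one_mulVec]

omit [Fintype F] [CharP F 2] in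
theorem rank_sub_one_eq (t : ↥(Cfsg.isometryGroup F ⇑Q)) :
    (((t : GL ι F) : Matrix ι ι F) - 1).rank = finrank F (LinearMap.range (subOne t)) := by
  rw [Matrix.rank, subOne, Matrix.toLin'_apply']

omit [CharP F 2] in
theorem exists_omega_conj_of_odd_commute (hQ : Q.polarBilin.Nondegenerate) (P : Frame Q)
    [CharP F 2] {t s r : ↥(Cfsg.isometryGroup F ⇑Q)} (hconj : IsConj t s)
    (hr : r * t = t * r) (hrO : r ∉ Cfsg.Omega F ⇑Q) :
    ∃ g ∈ Cfsg.Omega F ⇑Q, g * t * g⁻¹ = s := by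
  obtain ⟨g, hg⟩ := isConj_iff.mp hconj
  by_cases hgO : g ∈ Cfsg.Omega F ⇑Q
  · exact ⟨g, hgO, hg⟩
  refine ⟨g * r, ?_, ?_⟩
  · have hnd := ndPolar_of_nondeg hQ
    have hi := (CfsgLib.Classical.Quad.siegel_index_even hnd P (ringChar.eq F 2)).1
    rw [omega_mem_siegel Q hQ P] at hgO hrO ⊢
    rw [map_mul, Subgroup.mul_mem_iff_of_index_two hi]
    exact iff_of_false hgO hrO
  · rw [← hg]
    calc g * r * t * (g * r)⁻¹ = g * (r * t) * r⁻¹ * g⁻¹ := by group
      _ = g * t * g⁻¹ := by rw [hr]; group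

theorem exists_omega_conj_of_nonsingular_fixed (hQ : Q.polarBilin.Nondegenerate) (P : Frame Q)
    (hev : Even (Fintype.card ι)) {t s : ↥(Cfsg.isometryGroup F ⇑Q)} (hconj : IsConj t s)
    {x : ι → F} (hx : subOne t x = 0) (hQx : Q x ≠ 0) :
    ∃ g ∈ Cfsg.Omega F ⇑Q, g * t * g⁻¹ = s := by
  set e := isometryGroupEquiv Q (Qf := ⇑Q) (fun _ => rfl) with he
  obtain ⟨r, hr⟩ := e.surjective (refl Q x)
  refine exists_omega_conj_of_odd_commute hQ P hconj (r := r) ?_ ?_
  · apply e.injective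
    rw [map_mul, map_mul, hr]
    have htx : (e t).1 x = x := by rw [subOne_apply, sub_eq_zero] at hx; exact hx
    have h := CfsgLib.Classical.Quad.refl_conj (e t) x
    rw [htx] at h
    calc refl Q x * e t = (e t * refl Q x * (e t)⁻¹) * e t := by rw [h]
      _ = e t * refl Q x := by group
  · rw [omega_mem_iff Q hQ P hev _ rfl, rank_sub_one_eq]
    have hrange : LinearMap.range (subOne r) = F ∙ x := by
      apply le_antisymm
      · rintro _ ⟨y, rfl⟩
        rw [subOne_apply, ← he, hr, refl_apply, add_sub_cancel_left]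
        exact Submodule.smul_mem _ _ (Submodule.mem_span_singleton_self x)
      · rw [Submodule.span_singleton_le_iff_mem]
        obtain ⟨y, hy⟩ := CfsgLib.Classical.Quad.exists_polar_one (ndPolar_of_nondeg hQ)
          (show x ≠ 0 from fun h => hQx (by rw [h, QuadraticMap.map_zero]))
        refine ⟨(Q x) • y, ?_⟩
        rw [subOne_apply, ← he, hr, refl_apply, add_sub_cancel_left, CharTwo.neg_eq,
          polar_smul_left, QuadraticMap.polar_comm (⇑Q) y x, hy, smul_eq_mul, mul_one, div_self hQx,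
          one_smul]
    rw [hrange, finrank_span_singleton (show x ≠ 0 from fun h => hQx (by rw [h, QuadraticMap.map_zero]))]
    exact fun h => Nat.not_even_one h

omit [Fintype F] in
theorem Q_subOne (t : ↥(Cfsg.isometryGroup F ⇑Q)) (v : ι → F) :
    subOne t v = v + Matrix.mulVec ((t : GL ι F) : Matrix ι ι F) v := by
  rw [subOne, Matrix.toLin'_apply, Matrix.sub_mulVec, Matrix.one_mulVec, sub_eq_add_neg, add_comm]
  congr 1
  funext i
  exact CharTwo.neg_eq _

omit [Fintype F] in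
theorem range_le_ker (t : ↥(Cfsg.isometryGroup F ⇑Q)) (ht : t * t = 1) :
    LinearMap.range (subOne t) ≤ LinearMap.ker (subOne t) := by
  rintro _ ⟨y, rfl⟩
  have h : ((t : GL ι F) : Matrix ι ι F) * ((t : GL ι F) : Matrix ι ι F) = 1 := by
    rw [← Units.val_mul, ← Subgroup.coe_mul, ht]; rfl
  rw [LinearMap.mem_ker, Q_subOne t (subOne t y), Q_subOne, Matrix.mulVec_add, Matrix.mulVec_mulVec, h,
    Matrix.one_mulVec]
  funext i
  simp only [Pi.add_apply, Pi.zero_apply]
  linear_combination (y i + Matrix.mulVec ((t : GL ι F) : Matrix ι ι F) y i) * CharTwo.two_eq_zero (R := F)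

/-- A totally singular kernel forces maximal rank and a totally singular image. -/
theorem of_totSing_ker (hQ : Q.polarBilin.Nondegenerate) {m : ℕ} (hm : Fintype.card ι = 2 * m)
    (t : ↥(Cfsg.isometryGroup F ⇑Q)) (ht : t * t = 1)
    (h : TotSing Q (LinearMap.ker (subOne t))) :
    (((t : GL ι F) : Matrix ι ι F) - 1).rank = m ∧
      ∀ v, Q (v + Matrix.mulVec ((t : GL ι F) : Matrix ι ι F) v) = 0 := by
  have h1 := h.two_mul_le hQ
  have h2 := Submodule.finrank_mono (range_le_ker t ht)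
  have h3 := LinearMap.finrank_range_add_finrank_ker (subOne t)
  rw [Module.finrank_fintype_fun_eq_card, hm] at h1 h3
  refine ⟨by rw [rank_sub_one_eq]; omega, fun v => ?_⟩
  rw [← Q_subOne]
  exact h _ (range_le_ker t ht (LinearMap.mem_range_self _ _))

theorem omega_conj_iff_even_inter (hQ : Q.polarBilin.Nondegenerate) (P : Frame Q) {m : ℕ}
    (hm : Fintype.card ι = 2 * m) {t s : ↥(Cfsg.isometryGroup F ⇑Q)}
    (htO : t ∈ Cfsg.Omega F ⇑Q) (hconj : IsConj t s)
    (hrk : (((t : GL ι F) : Matrix ι ι F) - 1).rank = m)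
    (hQt : ∀ v, Q (v + Matrix.mulVec ((t : GL ι F) : Matrix ι ι F) v) = 0) :
    (∃ g ∈ Cfsg.Omega F ⇑Q, g * t * g⁻¹ = s) ↔
      Even (finrank F ↥(LinearMap.range (subOne t) ⊓ LinearMap.range (subOne s))) := by
  have hev : Even (Fintype.card ι) := ⟨m, by omega⟩
  have hm2 : m % 2 = 0 := by
    have := (omega_mem_iff Q hQ P hev _ rfl t).mp htO
    rw [hrk] at this
    exact Nat.even_iff.mp this
  set e := isometryGroupEquiv Q (Qf := ⇑Q) (fun _ => rfl) with he
  set W := LinearMap.range (subOne t) with hW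
  have hWT : TotSing Q W := by
    rintro _ ⟨v, rfl⟩; rw [Q_subOne]; exact hQt v
  have hWd : finrank F W = m := by rw [hW, ← rank_sub_one_eq, hrk]
  have key : ∀ g, g * t * g⁻¹ = s → (g ∈ Cfsg.Omega F ⇑Q ↔
      Even (finrank F ↥(W ⊓ LinearMap.range (subOne s)))) := by
    intro g hg
    have hrange : LinearMap.range (subOne s) = W.map ((e g).1 : (ι → F) →ₗ[F] (ι → F)) := by
      have hcomp : ∀ x, subOne s ((e g).1 x) = (e g).1 (subOne t x) := by
        intro x
        rw [subOne_apply, subOne_apply, map_sub, ← hg, ← he, map_mul, map_mul, map_inv]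
        simp only [CfsgLib.Classical.Quad.mul_apply, CfsgLib.Classical.Quad.inv_apply_self]
      apply le_antisymm
      · rintro _ ⟨y, rfl⟩
        obtain ⟨x, rfl⟩ := (e g).1.surjective y
        exact ⟨_, LinearMap.mem_range_self _ x, (hcomp x).symm⟩
      · rintro _ ⟨_, ⟨x, rfl⟩, rfl⟩
        exact ⟨_, hcomp x⟩
    have hp := fix_add_inf_parity hQ P hWT
      (by rw [hWd, Module.finrank_fintype_fun_eq_card, hm]) (e g)
    rw [← hrange, hWd] at hp
    rw [omega_mem_siegel Q hQ P, ← he,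
      (CfsgLib.Classical.Quad.siegel_index_even (ndPolar_of_nondeg hQ) P (ringChar.eq F 2)).2,
      Module.finrank_fintype_fun_eq_card, hm, Nat.even_iff]
    omega
  constructor
  · rintro ⟨g, hgO, hg⟩; exact (key g hg).mp hgO
  · intro h
    obtain ⟨g, hg⟩ := isConj_iff.mp hconj
    exact ⟨g, (key g hg).mpr h, hg⟩

theorem split_plus (Q : QuadraticForm F (ι → F)) (hQ : Q.polarBilin.Nondegenerate) (P : Frame Q)
    {m : ℕ} (hm : Fintype.card ι = 2 * m) (q : (ι → F) → F) (hq : ⇑Q = q)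
    (t s : ↥(Cfsg.isometryGroup F q)) (ht : orderOf t = 2)
    (htO : t ∈ Cfsg.Omega F q) (hconj : IsConj t s) :
    (¬ ((((t : GL ι F) : Matrix ι ι F) - 1).rank = m ∧
        ∀ v, q (v + Matrix.mulVec ((t : GL ι F) : Matrix ι ι F) v) = 0) →
      ∃ g ∈ Cfsg.Omega F q, g * t * g⁻¹ = s) ∧
    (((((t : GL ι F) : Matrix ι ι F) - 1).rank = m ∧
        ∀ v, q (v + Matrix.mulVec ((t : GL ι F) : Matrix ι ι F) v) = 0) →
      ((∃ g ∈ Cfsg.Omega F q, g * t * g⁻¹ = s) ↔
        Even (finrank F ↥(LinearMap.range (Matrix.toLin' (((t : GL ι F) : Matrix ι ι F) - 1)) ⊓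
          LinearMap.range (Matrix.toLin' (((s : GL ι F) : Matrix ι ι F) - 1)))))) := by
  subst hq
  have htt : t * t = 1 := by rw [← pow_two, ← ht, pow_orderOf_eq_one]
  refine ⟨fun hne => ?_, fun h => omega_conj_iff_even_inter hQ P hm htO hconj h.1 h.2⟩
  obtain ⟨x, hx, hQx⟩ : ∃ x ∈ LinearMap.ker (subOne t), Q x ≠ 0 := by
    by_contra hcon
    push Not at hcon
    exact hne (of_totSing_ker hQ hm t htt hcon)
  exact exists_omega_conj_of_nonsingular_fixed hQ P ⟨m, by omega⟩ hconj hx hQx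

end CfsgLib.CharTwoInv
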