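import Mathlib

/-! Square-zero endomorphisms are determined up to conjugacy by their rank; the determinant
of the conjugating map may be prescribed in characteristic two. -/

set_option autoImplicit false
set_option linter.style.haveILetI false

namespace CfsgLib.CharTwoInv

variable {F V : Type*} [Field F] [AddCommGroup V] [Module F V] [FiniteDimensional F V]

/-- Normal form data: `V ≅ W × W × U` with `N (a, b, u) = (0, a, 0)`. -/
theorem exists_squareZero_coords (N : V →ₗ[F] V) (hN : ∀ x, N (N x) = 0) :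
    ∃ (U : Submodule F V) (Φ : (↥(LinearMap.range N) × ↥(LinearMap.range N) × ↥U) ≃ₗ[F] V),
      (∀ p, N (Φ p) = (p.1 : V)) ∧ (∀ a : ↥(LinearMap.range N), (a : V) = Φ (0, a, 0)) := by
  obtain ⟨s, hs⟩ := N.rangeRestrict.exists_rightInverse_of_surjective N.range_rangeRestrict
  have hs' : ∀ a : LinearMap.range N, N (s a) = (a : V) := fun a => by
    have := congrArg (fun f => ((f a : LinearMap.range N) : V)) hs
    simpa using this
  have hW : ∀ a : LinearMap.range N, N (a : V) = 0 := fun a => by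
    obtain ⟨x, hx⟩ := a.2; rw [← hx]; exact hN x
  have hle : LinearMap.range N ≤ LinearMap.ker N := by
    rintro _ ⟨x, rfl⟩; exact hN x
  obtain ⟨U₀, hU₀⟩ := Submodule.exists_isCompl (LinearMap.range N)
  let U := U₀ ⊓ LinearMap.ker N
  let φ : (↥(LinearMap.range N) × ↥(LinearMap.range N) × ↥U) →ₗ[F] V :=
    LinearMap.coprod s (LinearMap.coprod (LinearMap.range N).subtype U.subtype)
  have hφ : ∀ p, φ p = s p.1 + ((p.2.1 : V) + (p.2.2 : V)) := fun p => rfl
  have hNφ : ∀ p, N (φ p) = (p.1 : V) := by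
    intro p
    have hu : N (p.2.2 : V) = 0 := p.2.2.2.2
    rw [hφ, map_add, map_add, hs', hW, hu]; simp
  have hinj : Function.Injective φ := by
    rw [← LinearMap.ker_eq_bot, LinearMap.ker_eq_bot']
    rintro ⟨a, b, u⟩ h
    have ha : a = 0 := by
      have := hNφ (a, b, u); rw [h, map_zero] at this; exact Subtype.ext this.symm
    subst ha
    rw [hφ] at h
    simp only [map_zero, zero_add] at h
    have hb : (b : V) ∈ LinearMap.range N ⊓ U₀ := by
      refine ⟨b.2, ?_⟩
      rw [eq_neg_of_add_eq_zero_left h]; exact U₀.neg_mem u.2.1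
    rw [hU₀.inf_eq_bot, Submodule.mem_bot] at hb
    rw [hb, zero_add] at h
    simp only [Prod.mk_eq_zero]
    exact ⟨trivial, Subtype.ext hb, Subtype.ext h⟩
  have hsurj : Function.Surjective φ := by
    intro v
    set a : LinearMap.range N := ⟨N v, LinearMap.mem_range_self N v⟩
    have hk : N (v - s a) = 0 := by rw [map_sub, hs']; simp [a]
    obtain ⟨w, hw, u, hu, hwu⟩ := Submodule.mem_sup.mp
      (show v - s a ∈ LinearMap.range N ⊔ U₀ by rw [hU₀.sup_eq_top]; exact Submodule.mem_top)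
    have hu' : u ∈ LinearMap.ker N := by
      have : u = (v - s a) - w := by rw [← hwu]; abel
      rw [this]; exact Submodule.sub_mem _ hk (hle hw)
    refine ⟨(a, ⟨w, hw⟩, ⟨u, hu, hu'⟩), ?_⟩
    rw [hφ]
    simp only
    rw [hwu]; abel
  refine ⟨U, LinearEquiv.ofBijective φ ⟨hinj, hsurj⟩, hNφ, fun a => ?_⟩
  show (a : V) = φ (0, a, 0)
  simp [hφ]

theorem exists_linearEquiv_det (W : Type*) [AddCommGroup W] [Module F W] [FiniteDimensional F W]
    (hW : 0 < Module.finrank F W) (c : F) (hc : c ≠ 0) :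
    ∃ h : W ≃ₗ[F] W, LinearMap.det (h : W →ₗ[F] W) = c := by
  classical
  let b := Module.finBasis F W
  let M : Matrix (Fin (Module.finrank F W)) (Fin (Module.finrank F W)) F :=
    Matrix.diagonal (fun i => if i = ⟨0, hW⟩ then c else 1)
  have hdet : LinearMap.det (Matrix.toLin b b M) = c := by
    rw [LinearMap.det_toLin, Matrix.det_diagonal]
    simp
  refine ⟨LinearMap.equivOfDetNeZero _ (by rw [hdet]; exact hc), ?_⟩
  rw [show ((LinearMap.equivOfDetNeZero (Matrix.toLin b b M) _ : W ≃ₗ[F] W) : W →ₗ[F] W) =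
    Matrix.toLin b b M from LinearMap.ext fun x => rfl]
  exact hdet

/-- Two square-zero maps of equal rank are conjugate, by a map with any prescribed nonzero
determinant when all elements are squares and the space is not the zero space. -/
theorem exists_conj_det_eq [Fintype F] [CharP F 2] (N N' : V →ₗ[F] V)
    (hN : ∀ x, N (N x) = 0) (hN' : ∀ x, N' (N' x) = 0)
    (hr : Module.finrank F (LinearMap.range N) = Module.finrank F (LinearMap.range N'))
    (hV : 0 < Module.finrank F V) :
    ∃ g : V ≃ₗ[F] V, (∀ x, g (N x) = N' (g x)) ∧ LinearMap.det (g : V →ₗ[F] V) = 1 := by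
  obtain ⟨U, Φ, hΦ, hΦ0⟩ := exists_squareZero_coords N hN
  obtain ⟨U', Φ', hΦ', hΦ0'⟩ := exists_squareZero_coords N' hN'
  have hdim := Φ.finrank_eq
  have hdim' := Φ'.finrank_eq
  rw [Module.finrank_prod, Module.finrank_prod] at hdim hdim'
  let eW : LinearMap.range N ≃ₗ[F] LinearMap.range N' := LinearEquiv.ofFinrankEq _ _ hr
  let eU : U ≃ₗ[F] U' := LinearEquiv.ofFinrankEq _ _ (by omega)
  let g₀ : V ≃ₗ[F] V := Φ.symm.trans ((eW.prodCongr (eW.prodCongr eU)).trans Φ')
  have hg₀ : ∀ x, g₀ (N x) = N' (g₀ x) := by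
    intro x
    obtain ⟨p, rfl⟩ := Φ.surjective x
    rw [hΦ, hΦ0]
    simp only [g₀, LinearEquiv.trans_apply, LinearEquiv.symm_apply_apply,
      LinearEquiv.prodCongr_apply, map_zero]
    rw [hΦ']
    exact (hΦ0' (eW p.1)).symm
  set c := LinearMap.det (g₀ : V →ₗ[F] V) with hc
  have hc0 : c ≠ 0 := (LinearEquiv.isUnit_det' g₀).ne_zero
  -- an automorphism commuting with `N` of determinant `c⁻¹`
  obtain ⟨d, hd, hdet⟩ : ∃ d : V ≃ₗ[F] V, (∀ x, d (N x) = N (d x)) ∧
      LinearMap.det (d : V →ₗ[F] V) = c⁻¹ := by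
    obtain ⟨h, k, hhk⟩ : ∃ (h : LinearMap.range N ≃ₗ[F] LinearMap.range N) (k : U ≃ₗ[F] U),
        LinearMap.det h.toLinearMap * (LinearMap.det h.toLinearMap *
          LinearMap.det k.toLinearMap) = c⁻¹ := by
      rcases Nat.eq_zero_or_pos (Module.finrank F U) with h0 | hpos
      · obtain ⟨μ, hμ⟩ := FiniteField.isSquare_of_char_two (ringChar.eq F 2) c⁻¹ |> id
        obtain ⟨h, hh⟩ := exists_linearEquiv_det (F := F) (LinearMap.range N) (by omega) μ
          (fun hz => by rw [hz, zero_mul] at hμ; exact inv_ne_zero hc0 hμ)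
        refine ⟨h, LinearEquiv.refl F U, ?_⟩
        rw [hh, LinearEquiv.refl_toLinearMap, LinearMap.det_id, mul_one, ← hμ]
      · obtain ⟨k, hk⟩ := exists_linearEquiv_det (F := F) U hpos c⁻¹ (inv_ne_zero hc0)
        refine ⟨LinearEquiv.refl F _, k, ?_⟩
        rw [hk, LinearEquiv.refl_toLinearMap, LinearMap.det_id, one_mul, one_mul]
    let D := h.prodCongr (h.prodCongr k)
    refine ⟨Φ.symm.trans (D.trans Φ), fun x => ?_, ?_⟩
    · obtain ⟨p, rfl⟩ := Φ.surjective x
      rw [hΦ, hΦ0]
      simp only [D, LinearEquiv.trans_apply, LinearEquiv.symm_apply_apply,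
        LinearEquiv.prodCongr_apply, map_zero]
      rw [hΦ]
      exact (hΦ0 (h p.1)).symm
    · rw [show ((Φ.symm.trans (D.trans Φ) : V ≃ₗ[F] V) : V →ₗ[F] V) =
          Φ.toLinearMap ∘ₗ D.toLinearMap ∘ₗ Φ.symm.toLinearMap from rfl,
        LinearMap.det_conj,
        show D.toLinearMap =
          LinearMap.prodMap h.toLinearMap (LinearMap.prodMap h.toLinearMap k.toLinearMap)
          from rfl,
        LinearMap.det_prodMap, LinearMap.det_prodMap]
      exact hhk
  refine ⟨d.trans g₀, fun x => by simp [hd, hg₀], ?_⟩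
  rw [show ((d.trans g₀ : V ≃ₗ[F] V) : V →ₗ[F] V) = (g₀ : V →ₗ[F] V) ∘ₗ (d : V →ₗ[F] V) from rfl,
    LinearMap.det_comp, hdet, mul_inv_cancel₀ hc0]

theorem card_eq_orderOf_two {G : Type*} [Group G] {a : G} (ha : orderOf a = 2) : a * a = 1 := by
  rw [← pow_two, ← ha, pow_orderOf_eq_one]

theorem sub_one_sq_zero {R : Type*} [Ring R] [CharP R 2] {a : R} (ha : a * a = 1) :
    (a - 1) * (a - 1) = 0 := by
  rw [sub_mul, mul_sub, ha, one_mul, mul_one]
  have : (2 : R) = 0 := CharP.cast_eq_zero R 2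
  linear_combination (norm := noncomm_ring) (this : (2 : R) = 0) * (1 - a)

/-- The rank of a product having a one-sided inverse on each side. -/
theorem rank_eq_of_sandwich {F : Type*} [Field F] {n l : ℕ}
    (E : Matrix (Fin n) (Fin n) F) (A : Matrix (Fin n) (Fin l) F) (B : Matrix (Fin l) (Fin n) F)
    (A' : Matrix (Fin l) (Fin n) F) (B' : Matrix (Fin n) (Fin l) F)
    (hE : E = A * B) (hA : A' * A = 1) (hB : B * B' = 1) : E.rank = l := by
  refine le_antisymm ?_ ?_
  · rw [hE]; exact le_trans (Matrix.rank_mul_le_right _ _) (Matrix.rank_le_height _)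
  · have h1 : A' * E * B' = (1 : Matrix (Fin l) (Fin l) F) := by
      rw [hE, Matrix.mul_assoc A' (A * B) B', Matrix.mul_assoc A B B', hB, Matrix.mul_one, hA]
    have h2 := congrArg Matrix.rank h1
    rw [Matrix.rank_one, Fintype.card_fin] at h2
    rw [← h2]
    exact le_trans (Matrix.rank_mul_le_left _ _) (Matrix.rank_mul_le_right _ _)

theorem det_eq_one_of_mul_self {F : Type*} [Field F] [CharP F 2] {ι : Type*} [Fintype ι]
    [DecidableEq ι] {a : Matrix ι ι F} (ha : a * a = 1) : a.det = 1 := by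
  have h : a.det * a.det = 1 := by rw [← Matrix.det_mul, ha, Matrix.det_one]
  rcases mul_self_eq_one_iff.mp h with h | h
  · exact h
  · rwa [CharTwo.neg_eq] at h

end CfsgLib.CharTwoInv
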