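import Cfsg.Prelude.Def_ClassicalGeometry
import Cfsg.Agent.Lib.CharTwoInv.SesqConj
import Cfsg.Agent.Lib.CharTwoInv.Gauss

/-! Involutions of symplectic groups in characteristic two. -/

set_option autoImplicit false
set_option linter.style.haveILetI false

namespace CfsgLib.CharTwoInv

open Matrix

variable {F : Type*} [Field F] [Fintype F] [CharP F 2] {m : ℕ}

/-- The symplectic form as a bilinear map. -/
noncomputable def sympB (m : ℕ) (F : Type*) [Field F] :
    (Fin m ⊕ Fin m → F) →ₛₗ[RingHom.id F] (Fin m ⊕ Fin m → F) →ₗ[F] F :=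
  Matrix.toLinearMap₂' F (Matrix.J (Fin m) F)

omit [Fintype F] [CharP F 2] in
theorem sympB_apply (u v : Fin m ⊕ Fin m → F) : sympB m F u v = Cfsg.sympForm m F u v := by
  simp [sympB, Cfsg.sympForm, Matrix.toLinearMap₂'_apply']

omit [Fintype F] in
theorem sympB_self (u : Fin m ⊕ Fin m → F) : sympB m F u u = 0 := by
  rw [sympB_apply, Cfsg.sympForm, Matrix.J]
  simp only [dotProduct, Fintype.sum_sum_type, Matrix.fromBlocks_mulVec]
  simp only [Matrix.neg_mulVec, Matrix.one_mulVec, Matrix.zero_mulVec, zero_add, add_zero,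
    Sum.elim_inl, Sum.elim_inr, Function.comp_apply, Pi.neg_apply]
  rw [← Finset.sum_add_distrib]
  exact Finset.sum_eq_zero fun i _ => by ring

omit [Fintype F] in
theorem sympB_symm : SesqSymm (sympB m F) := by
  intro x y
  have h := sympB_self (x + y)
  simp only [map_add, LinearMap.add_apply, sympB_self, zero_add, add_zero] at h
  rw [RingHom.id_apply]
  exact (CharTwo.add_eq_zero.mp (by linear_combination h))

omit [Fintype F] [CharP F 2] in
theorem sympB_nondeg : SesqNondeg (sympB m F) := by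
  intro y hy
  have h : Matrix.mulVec (Matrix.J (Fin m) F) y = 0 := by
    funext i
    have := hy (Pi.single i 1)
    rw [sympB_apply, Cfsg.sympForm, single_dotProduct, one_mul] at this
    exact this
  have h2 := congrArg (Matrix.mulVec (Matrix.J (Fin m) F)) h
  rw [Matrix.mulVec_mulVec, Matrix.J_squared, Matrix.neg_mulVec, Matrix.one_mulVec,
    Matrix.mulVec_zero, neg_eq_zero] at h2
  exact h2

omit [Fintype F] [CharP F 2] in
theorem sympB_preserved (a : ↥(Matrix.symplecticGroup (Fin m) F)) (x y : Fin m ⊕ Fin m → F) :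
    sympB m F (Matrix.mulVec (a : Matrix (Fin m ⊕ Fin m) (Fin m ⊕ Fin m) F) x)
      (Matrix.mulVec (a : Matrix (Fin m ⊕ Fin m) (Fin m ⊕ Fin m) F) y) = sympB m F x y := by
  rw [sympB_apply, sympB_apply, Cfsg.sympForm, Cfsg.sympForm, Matrix.mulVec_mulVec,
    ← Matrix.vecMul_transpose, ← Matrix.dotProduct_mulVec, Matrix.mulVec_mulVec,
    ← Matrix.mul_assoc, SymplecticGroup.mem_iff'.mp a.2]

theorem symp_mem_of_preserves (M : Matrix (Fin m ⊕ Fin m) (Fin m ⊕ Fin m) F)
    (h : ∀ x y, sympB m F (Matrix.mulVec M x) (Matrix.mulVec M y) = sympB m F x y) :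
    M ∈ Matrix.symplecticGroup (Fin m) F := by
  rw [SymplecticGroup.mem_iff']
  ext i j
  have h1 := h (Pi.single i 1) (Pi.single j 1)
  rw [sympB_apply, sympB_apply, Cfsg.sympForm, Cfsg.sympForm, Matrix.mulVec_mulVec,
    ← Matrix.vecMul_transpose, ← Matrix.dotProduct_mulVec, Matrix.mulVec_mulVec,
    ← Matrix.mul_assoc, single_dotProduct, single_dotProduct, one_mul, one_mul] at h1
  simpa using h1

/-- `a - 1` as a linear map. -/
noncomputable abbrev spSubOne (a : ↥(Matrix.symplecticGroup (Fin m) F)) :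
    (Fin m ⊕ Fin m → F) →ₗ[F] (Fin m ⊕ Fin m → F) :=
  Matrix.toLin' ((a : Matrix (Fin m ⊕ Fin m) (Fin m ⊕ Fin m) F) - 1)

theorem spSubOne_apply (a : ↥(Matrix.symplecticGroup (Fin m) F)) (x : Fin m ⊕ Fin m → F) :
    spSubOne a x = Matrix.mulVec (a : Matrix (Fin m ⊕ Fin m) (Fin m ⊕ Fin m) F) x + x := by
  rw [spSubOne, Matrix.toLin'_apply, Matrix.sub_mulVec, Matrix.one_mulVec]
  funext i
  simp [CharTwo.sub_eq_add]

theorem spSubOne_selfAdj (a : ↥(Matrix.symplecticGroup (Fin m) F)) (ha : a * a = 1) :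
    SelfAdjNil (sympB m F) (spSubOne a) := by
  set A : Matrix (Fin m ⊕ Fin m) (Fin m ⊕ Fin m) F :=
    (a : Matrix (Fin m ⊕ Fin m) (Fin m ⊕ Fin m) F) with hA
  have hAA : ∀ x, Matrix.mulVec A (Matrix.mulVec A x) = x := fun x => by
    rw [Matrix.mulVec_mulVec, hA, ← Submonoid.coe_mul, ha]
    exact Matrix.one_mulVec x
  refine ⟨fun x => ?_, fun x y => ?_⟩
  · rw [spSubOne_apply, spSubOne_apply, ← hA, Matrix.mulVec_add, hAA]
    funext i
    simp only [Pi.add_apply, Pi.zero_apply]
    linear_combination (x i + Matrix.mulVec A x i) * CharTwo.two_eq_zero (R := F)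
  · rw [spSubOne_apply, spSubOne_apply, ← hA, map_add, LinearMap.add_apply, map_add]
    congr 1
    rw [← sympB_preserved a, ← hA, hAA]

theorem sympForm_eq (a : ↥(Matrix.symplecticGroup (Fin m) F)) (v : Fin m ⊕ Fin m → F) :
    Cfsg.sympForm m F v (Matrix.mulVec (a : Matrix (Fin m ⊕ Fin m) (Fin m ⊕ Fin m) F) v) =
      sympB m F v (spSubOne a v) := by
  rw [spSubOne_apply, map_add, sympB_self, add_zero, sympB_apply]

/-- The additive map `v ↦ f(v, a v)`. -/
noncomputable def spDefect (a : ↥(Matrix.symplecticGroup (Fin m) F)) (ha : a * a = 1) :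
    (Fin m ⊕ Fin m → F) →+ F where
  toFun v := sympB m F v (spSubOne a v)
  map_zero' := by simp
  map_add' x y := by
    have h : sympB m F y (spSubOne a x) = sympB m F x (spSubOne a y) := by
      rw [← sympB_symm (spSubOne a x) y, RingHom.id_apply, (spSubOne_selfAdj a ha).adj]
    simp only [map_add, LinearMap.add_apply]
    linear_combination h + sympB m F x (spSubOne a y) * CharTwo.two_eq_zero (R := F)

theorem spDefect_surjective (a : ↥(Matrix.symplecticGroup (Fin m) F)) (ha : a * a = 1)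
    {v : Fin m ⊕ Fin m → F} (hv : sympB m F v (spSubOne a v) ≠ 0) :
    Function.Surjective (spDefect a ha) := by
  intro c
  obtain ⟨r, hr⟩ := FiniteField.isSquare_of_char_two (ringChar.eq F 2) (c / sympB m F v (spSubOne a v))
  refine ⟨r • v, ?_⟩
  show sympB m F (r • v) (spSubOne a (r • v)) = c
  simp only [map_smul, LinearMap.smul_apply, smul_eq_mul]
  rw [← mul_assoc, ← hr, div_mul_cancel₀ _ hv]

theorem card_defect (a : ↥(Matrix.symplecticGroup (Fin m) F)) (ha : a * a = 1) :
    ((∀ v, sympB m F v (spSubOne a v) = 0) ∧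
      Nat.card {v : Fin m ⊕ Fin m → F // Cfsg.sympForm m F v
        (Matrix.mulVec (a : Matrix (Fin m ⊕ Fin m) (Fin m ⊕ Fin m) F) v) = 0}
        = Fintype.card F ^ (2 * m)) ∨
    ((¬ ∀ v, sympB m F v (spSubOne a v) = 0) ∧
      Nat.card {v : Fin m ⊕ Fin m → F // Cfsg.sympForm m F v
        (Matrix.mulVec (a : Matrix (Fin m ⊕ Fin m) (Fin m ⊕ Fin m) F) v) = 0} * Fintype.card F
        = Fintype.card F ^ (2 * m)) := by
  classical
  have hV : Nat.card (Fin m ⊕ Fin m → F) = Fintype.card F ^ (2 * m) := by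
    rw [Nat.card_eq_fintype_card, Fintype.card_fun, Fintype.card_sum, Fintype.card_fin, two_mul]
  have he : Nat.card {v : Fin m ⊕ Fin m → F // Cfsg.sympForm m F v
      (Matrix.mulVec (a : Matrix (Fin m ⊕ Fin m) (Fin m ⊕ Fin m) F) v) = 0} =
      Nat.card (spDefect a ha).ker :=
    Nat.card_congr (Equiv.subtypeEquivRight fun v => by rw [sympForm_eq]; rfl)
  rw [he]
  by_cases h : ∀ v, sympB m F v (spSubOne a v) = 0
  · left
    refine ⟨h, ?_⟩
    rw [show (spDefect a ha).ker = ⊤ from AddSubgroup.ext fun v => iff_of_true (h v) trivial,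
      AddSubgroup.card_top, hV]
  · right
    refine ⟨h, ?_⟩
    push Not at h
    obtain ⟨v, hv⟩ := h
    have hm := (spDefect a ha).ker.card_mul_index
    rw [AddSubgroup.index_ker, AddMonoidHom.range_eq_top.mpr (spDefect_surjective a ha hv),
      AddSubgroup.card_top, Nat.card_eq_fintype_card (α := F), hV] at hm
    exact hm

universe u

theorem sesq_alt_even {F : Type*} [Field F] [CharP F 2] {σ : F →+* F} :
    ∀ (n : ℕ) {W : Type u} [AddCommGroup W] [Module F W] [FiniteDimensional F W]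
      (β : W →ₛₗ[σ] W →ₗ[F] F), SesqSymm β → SesqNondeg β → (∀ x, β x x = 0) →
      Module.finrank F W = n → Even n := by
  intro n
  induction n using Nat.strong_induction_on with
  | _ n ih =>
    intro W _ _ _ β hs hn halt hd
    rcases Nat.eq_zero_or_pos n with rfl | hpos
    · exact Even.zero
    haveI : Nontrivial W := Module.nontrivial_of_finrank_pos (R := F) (by omega)
    obtain ⟨y, hy⟩ := exists_ne (0 : W)
    obtain ⟨x, hx⟩ : ∃ x, β x y ≠ 0 := by
      by_contra hcon; push Not at hcon; exact hy (hn y hcon)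
    obtain ⟨hK, e, -⟩ := split_pair hs hn (halt x) (halt ((β x y)⁻¹ • y))
      (by rw [map_smul, smul_eq_mul, inv_mul_cancel₀ hx])
    have hd1 := e.finrank_eq
    rw [Module.finrank_prod, Module.finrank_prod, Module.finrank_self, hd] at hd1
    have := ih (n - 2) (by omega) _ (sesqRestrict_symm hs _) hK (fun z => halt _) (by omega)
    rw [Nat.even_iff] at this ⊢
    omega

theorem rank_even_of_defect_zero (a : ↥(Matrix.symplecticGroup (Fin m) F)) (ha : a * a = 1)
    (h : ∀ v, sympB m F v (spSubOne a v) = 0) :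
    Even ((a : Matrix (Fin m ⊕ Fin m) (Fin m ⊕ Fin m) F) - 1).rank := by
  obtain ⟨S⟩ := exists_isoSection sympB_symm sympB_nondeg (fun _ => rfl)
    (fun x => ⟨0, by rw [sympB_self]; simp⟩) (spSubOne_selfAdj a ha)
  have := sesq_alt_even _ S.form S.symm S.nondeg (fun b => by
    rw [S.form_eq, ← S.right b]; exact h _) rfl
  rwa [Matrix.rank, ← Matrix.toLin'_apply']

theorem sp_involution_isConj_iff (a b : ↥(Matrix.symplecticGroup (Fin m) F)) (ha : a * a = 1)
    (hb : b * b = 1) :
    IsConj a b ↔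
      (((a : Matrix (Fin m ⊕ Fin m) (Fin m ⊕ Fin m) F) - 1).rank =
        ((b : Matrix (Fin m ⊕ Fin m) (Fin m ⊕ Fin m) F) - 1).rank ∧
      (Even ((a : Matrix (Fin m ⊕ Fin m) (Fin m ⊕ Fin m) F) - 1).rank →
        Nat.card {v : Fin m ⊕ Fin m → F // Cfsg.sympForm m F v
          (Matrix.mulVec (a : Matrix (Fin m ⊕ Fin m) (Fin m ⊕ Fin m) F) v) = 0} =
        Nat.card {v : Fin m ⊕ Fin m → F // Cfsg.sympForm m F v
          (Matrix.mulVec (b : Matrix (Fin m ⊕ Fin m) (Fin m ⊕ Fin m) F) v) = 0})) := by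
  constructor
  · intro h
    obtain ⟨g, hg⟩ := isConj_iff.mp h
    have hgab : g * a = b * g := by rw [← hg]; group
    set G : Matrix (Fin m ⊕ Fin m) (Fin m ⊕ Fin m) F :=
      (g : Matrix (Fin m ⊕ Fin m) (Fin m ⊕ Fin m) F) with hG
    set G' : Matrix (Fin m ⊕ Fin m) (Fin m ⊕ Fin m) F :=
      ((g⁻¹ : ↥(Matrix.symplecticGroup (Fin m) F)) : Matrix (Fin m ⊕ Fin m) (Fin m ⊕ Fin m) F) with hG'
    have h1 : G * G' = 1 := by rw [hG, hG', ← Submonoid.coe_mul, mul_inv_cancel]; rfl
    have h2 : G' * G = 1 := by rw [hG, hG', ← Submonoid.coe_mul, inv_mul_cancel]; rfl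
    have hcomm : G * (a : Matrix (Fin m ⊕ Fin m) (Fin m ⊕ Fin m) F) =
        (b : Matrix (Fin m ⊕ Fin m) (Fin m ⊕ Fin m) F) * G := by
      rw [hG, ← Submonoid.coe_mul, hgab]; rfl
    refine ⟨?_, fun _ => Nat.card_congr ?_⟩
    · have he : (b : Matrix (Fin m ⊕ Fin m) (Fin m ⊕ Fin m) F) - 1 =
          G * ((a : Matrix (Fin m ⊕ Fin m) (Fin m ⊕ Fin m) F) - 1) * G' := by
        rw [Matrix.mul_sub, Matrix.sub_mul, Matrix.mul_one, h1, hcomm, Matrix.mul_assoc, h1,
          Matrix.mul_one]
      rw [he, Matrix.rank_mul_eq_left_of_isUnit_det _ _ (Matrix.isUnit_det_of_right_inverse h1 |> fun _ =>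
          Matrix.isUnit_det_of_right_inverse h2),
        Matrix.rank_mul_eq_right_of_isUnit_det _ _ (Matrix.isUnit_det_of_right_inverse h1)]
    · refine
        { toFun := fun v => ⟨Matrix.mulVec G v.1, ?_⟩
          invFun := fun v => ⟨Matrix.mulVec G' v.1, ?_⟩
          left_inv := fun v => Subtype.ext (by simp [Matrix.mulVec_mulVec, h2])
          right_inv := fun v => Subtype.ext (by simp [Matrix.mulVec_mulVec, h1]) }
      · rw [← sympB_apply, Matrix.mulVec_mulVec, ← hcomm, ← Matrix.mulVec_mulVec, hG,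
          sympB_preserved, sympB_apply]
        exact v.2
      · have hv := v.2
        rw [← sympB_apply] at hv ⊢
        rw [← sympB_preserved g, ← hG, Matrix.mulVec_mulVec, Matrix.mulVec_mulVec, h1, Matrix.one_mulVec,
          hcomm, ← Matrix.mulVec_mulVec, Matrix.mulVec_mulVec _ G G', h1, Matrix.one_mulVec]
        exact hv
  · rintro ⟨hr, hcard⟩
    have hnorm : ∀ c : F, RingHom.id F c = c → c ≠ 0 → ∃ x, RingHom.id F x * x = c := fun c _ _ => by
      obtain ⟨r, hr⟩ := FiniteField.isSquare_of_char_two (ringChar.eq F 2) c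
      exact ⟨r, hr.symm⟩
    have halt : (∀ v, sympB m F v (spSubOne a v) = 0) ↔ ∀ v, sympB m F v (spSubOne b v) = 0 := by
      rcases card_defect a ha with ⟨h1, e1⟩ | ⟨h1, e1⟩ <;>
        rcases card_defect b hb with ⟨h2, e2⟩ | ⟨h2, e2⟩
      · exact iff_of_true h1 h2
      · exfalso
        have he := hcard (rank_even_of_defect_zero a ha h1)
        rw [e1] at he
        rw [← he] at e2
        have hq : 1 < Fintype.card F := Fintype.one_lt_card
        have hpos : 0 < Fintype.card F ^ (2 * m) := pow_pos (by omega) _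
        nlinarith
      · exfalso
        have he := hcard (hr ▸ rank_even_of_defect_zero b hb h2)
        rw [e2] at he
        rw [he] at e1
        have hq : 1 < Fintype.card F := Fintype.one_lt_card
        have hpos : 0 < Fintype.card F ^ (2 * m) := pow_pos (by omega) _
        nlinarith
      · exact iff_of_false h1 h2
    obtain ⟨g, hg, hgN⟩ := exists_selfAdj_conj sympB_symm sympB_nondeg (fun _ => rfl)
      (fun x => ⟨0, by rw [sympB_self]; simp⟩) hnorm
      (fun X f hf hinj => CfsgLib.Forms.witt_alternating (sympB m F)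
        ⟨fun x hx => sympB_nondeg x fun y => sesq_symm_zero sympB_symm (hx y),
          fun y hy => sympB_nondeg y hy⟩
        sympB_self X f hf hinj)
      (spSubOne_selfAdj a ha) (spSubOne_selfAdj b hb)
      (by rw [Matrix.rank, Matrix.rank, ← Matrix.toLin'_apply', ← Matrix.toLin'_apply'] at hr; exact hr)
      halt
    obtain ⟨M, hM⟩ : ∃ M : Matrix (Fin m ⊕ Fin m) (Fin m ⊕ Fin m) F,
        ∀ x, Matrix.mulVec M x = g x :=
      ⟨LinearMap.toMatrix' g.toLinearMap, fun x => by
        rw [← Matrix.toLin'_apply, Matrix.toLin'_toMatrix']; rfl⟩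
    let g' : ↥(Matrix.symplecticGroup (Fin m) F) :=
      ⟨M, symp_mem_of_preserves M fun x y => by rw [hM, hM, hg]⟩
    refine isConj_iff.mpr ⟨g', ?_⟩
    rw [mul_inv_eq_iff_eq_mul]
    apply Subtype.ext
    apply Matrix.toLin'.injective
    refine LinearMap.ext fun x => ?_
    have h := hgN x
    rw [spSubOne_apply, spSubOne_apply, map_add] at h
    have h' := add_right_cancel h
    simp only [Submonoid.coe_mul, Matrix.toLin'_apply, ← Matrix.mulVec_mulVec, g', hM]
    exact h'

end CfsgLib.CharTwoInv
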