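import Cfsg.Prelude.Def_Classical
import Cfsg.Agent.Lib.CharTwoInv.SesqConj
import Cfsg.Agent.Lib.CharTwoInv.SquareZero

/-! Involutions of special unitary groups in characteristic two. -/

set_option autoImplicit false
set_option linter.style.haveILetI false

namespace CfsgLib.CharTwoInv

variable {F : Type*} [Field F] [Fintype F] [CharP F 2] {σ : F →+* F}

section Quasi

variable {W : Type*} [AddCommGroup W] [Module F W] [FiniteDimensional F W]

omit [Fintype F] in
/-- A quasi-reflection with prescribed determinant. -/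
theorem exists_quasiReflection (β : W →ₛₗ[σ] W →ₗ[F] F) (hs : SesqSymm β) {x : W}
    (hx : β x x ≠ 0) {μ : F} (hμ : σ μ * μ = 1) :
    ∃ T : W ≃ₗ[F] W, (∀ v w, β (T v) (T w) = β v w) ∧ LinearMap.det T.toLinearMap = μ ∧
      ∀ v, ∃ c : F, T v = v + c • x := by
  set b := β x x with hb
  set T₀ : W →ₗ[F] W := LinearMap.transvection (((μ - 1) * b⁻¹) • β x) x with hT₀
  have hT : ∀ v, T₀ v = v + ((μ - 1) * b⁻¹ * β x v) • x := fun v => by
    rw [hT₀, LinearMap.transvection.apply]; simp
  have hdet : LinearMap.det T₀ = μ := by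
    rw [hT₀, LinearMap.transvection.det]
    simp only [LinearMap.smul_apply, smul_eq_mul, ← hb, mul_assoc, inv_mul_cancel₀ hx, mul_one]
    ring
  have hμ0 : μ ≠ 0 := fun h => by rw [h, mul_zero] at hμ; exact zero_ne_one hμ
  refine ⟨LinearMap.equivOfDetNeZero T₀ (by rw [hdet]; exact hμ0), fun v w => ?_, hdet,
    fun v => ⟨_, hT v⟩⟩
  show β (T₀ v) (T₀ w) = β v w
  rw [hT, hT]
  simp only [map_add, LinearMap.add_apply, map_smul, LinearMap.map_smulₛₗ, LinearMap.smul_apply,
    RingHom.id_apply, smul_eq_mul, map_mul, map_sub, map_one, map_inv₀]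
  rw [hb, hs x x, hs x v, ← hb]
  field_simp
  linear_combination (β v x * β x w) * hμ

end Quasi

variable {V : Type*} [AddCommGroup V] [Module F V] [FiniteDimensional F V]

omit [Fintype F] [FiniteDimensional F V] in
theorem alt_iff_zero {B : V →ₛₗ[σ] V →ₗ[F] F} (hB : SesqSymm B) (hBn : SesqNondeg B)
    (hσ : σ ≠ RingHom.id F) {N : V →ₗ[F] V} (h : SelfAdjNil B N) :
    (∀ v, B v (N v) = 0) ↔ N = 0 := by
  refine ⟨fun hall => LinearMap.ext fun y => hBn _ fun x => ?_, fun h0 v => by simp [h0]⟩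
  obtain ⟨c, hc⟩ : ∃ c, σ c ≠ c := by
    by_contra hcon
    push Not at hcon
    exact hσ (RingHom.ext hcon)
  set t := B x (N y) with ht
  have h1 : ∀ r : F, σ r * t + r * σ t = 0 := by
    intro r
    have := hall (r • x + y)
    simp only [map_add, LinearMap.add_apply, map_smul, LinearMap.map_smulₛₗ, LinearMap.smul_apply,
      RingHom.id_apply, smul_eq_mul, hall x, hall y] at this
    rw [ht, hB, h.adj]
    linear_combination this
  have h2 := h1 1
  rw [map_one, one_mul, one_mul, CharTwo.add_eq_zero] at h2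
  have h3 := h1 c
  rw [← h2, ← add_mul] at h3
  rcases mul_eq_zero.mp h3 with h4 | h4
  · exact absurd (CharTwo.add_eq_zero.mp h4) hc
  · exact h4

/-- An isometry commuting with `N` of any determinant of norm one. -/
theorem exists_commuting_isometry_det {B : V →ₛₗ[σ] V →ₗ[F] F} (hB : SesqSymm B) (hBn : SesqNondeg B)
    (hσ : σ ≠ RingHom.id F) (hσ2 : ∀ a, σ (σ a) = a) (htr : ∀ x, ∃ t : F, t + σ t = B x x)
    (hWitt : ∀ (X : Submodule F V) (f : V →ₗ[F] V), (∀ x ∈ X, ∀ y ∈ X, B (f x) (f y) = B x y) →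
      (∀ x ∈ X, f x = 0 → x = 0) →
      ∃ g : V ≃ₗ[F] V, (∀ x y, B (g x) (g y) = B x y) ∧ ∀ x ∈ X, g x = f x)
    (hV : 0 < Module.finrank F V) {N : V →ₗ[F] V} (h : SelfAdjNil B N) {μ : F} (hμ : σ μ * μ = 1) :
    ∃ g : V ≃ₗ[F] V, (∀ x y, B (g x) (g y) = B x y) ∧ (∀ x, g (N x) = N (g x)) ∧
      LinearMap.det g.toLinearMap = μ := by
  by_cases hk : ∃ x, N x = 0 ∧ B x x ≠ 0
  · obtain ⟨x, hNx, hBx⟩ := hk
    obtain ⟨T, hT, hdet, hTv⟩ := exists_quasiReflection B hB hBx hμ
    refine ⟨T, hT, fun v => ?_, hdet⟩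
    obtain ⟨c, hc⟩ := hTv v
    rw [hc, map_add, map_smul, hNx, smul_zero, add_zero]
    refine (sub_eq_zero.mp (hBn _ fun y => ?_))
    obtain ⟨z, rfl⟩ := T.surjective y
    obtain ⟨d, hd⟩ := hTv z
    have e1 : B x (N v) = 0 := by rw [← h.adj, hNx]; simp
    rw [map_sub, hT, hd, map_add, LinearMap.add_apply, LinearMap.map_smulₛₗ, LinearMap.smul_apply, e1,
      smul_zero, add_zero, sub_self]
  push Not at hk
  have hker : ∀ k k', N k = 0 → N k' = 0 → B k k' = 0 := by
    intro k k' hk1 hk2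
    obtain ⟨c, hc⟩ : ∃ c, σ c ≠ c := by
      by_contra hcon
      push Not at hcon
      exact hσ (RingHom.ext hcon)
    set t := B k k' with ht
    have h1 : ∀ r : F, σ r * t + r * σ t = 0 := by
      intro r
      have := hk (r • k + k') (by simp [hk1, hk2])
      simp only [map_add, LinearMap.add_apply, map_smul, LinearMap.map_smulₛₗ, LinearMap.smul_apply,
        RingHom.id_apply, smul_eq_mul, hk k hk1, hk k' hk2] at this
      rw [ht, hB]
      linear_combination this
    have h2 := h1 1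
    rw [map_one, one_mul, one_mul, CharTwo.add_eq_zero] at h2
    have h3 := h1 c
    rw [← h2, ← add_mul] at h3
    rcases mul_eq_zero.mp h3 with h4 | h4
    · exact absurd (CharTwo.add_eq_zero.mp h4) hc
    · exact h4
  obtain ⟨S⟩ := exists_isoSection hB hBn hσ2 htr h
  have hrep : ∀ k : V, ∃ b : ↥(LinearMap.range N), ∀ c, S.form c b = B (S.s c) k := by
    intro k
    let e := Module.finBasis F ↥(LinearMap.range N)
    let ev : ↥(LinearMap.range N) →ₗ[F] (Fin (Module.finrank F ↥(LinearMap.range N)) → F) :=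
      LinearMap.pi fun i => S.form (e i)
    have hev : Function.Surjective ev := by
      rw [← LinearMap.injective_iff_surjective_of_finrank_eq_finrank (by simp)]
      rw [← LinearMap.ker_eq_bot, LinearMap.ker_eq_bot']
      intro b hb
      refine S.nondeg b fun x => ?_
      have h0 : S.form.flip b = 0 := e.ext fun i => by simpa [ev] using congrFun hb i
      simpa using LinearMap.congr_fun h0 x
    obtain ⟨b, hb⟩ := hev fun i => B (S.s (e i)) k
    refine ⟨b, fun c => ?_⟩
    have h0 : S.form.flip b = (B.comp S.s).flip k := e.ext fun i => by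
      simpa [ev] using congrFun hb i
    simpa using LinearMap.congr_fun h0 c
  have hsurj : Function.Surjective S.tau := by
    intro v
    let a : LinearMap.range N := ⟨N v, LinearMap.mem_range_self N v⟩
    have hk0 : N (v - S.s a) = 0 := by rw [map_sub, S.right]; exact sub_self _
    obtain ⟨b, hb⟩ := hrep (v - S.s a)
    have hNb : N (b : V) = 0 := by obtain ⟨x, hx⟩ := b.2; rw [← hx, h.sq]
    have hk' : N (v - S.s a - (b : V)) = 0 := by rw [map_sub, hk0, hNb, sub_zero]
    have hzero : v - S.s a - (b : V) = 0 := by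
      refine hBn _ fun y => ?_
      let a' : LinearMap.range N := ⟨N y, LinearMap.mem_range_self N y⟩
      have h1 : B (y - S.s a') (v - S.s a - (b : V)) = 0 :=
        hker _ _ (by rw [map_sub, S.right]; exact sub_self _) hk'
      have h2 : B (S.s a') (v - S.s a - (b : V)) = 0 := by
        rw [map_sub, ← hb, S.form_eq, sub_self]
      rw [map_sub B, LinearMap.sub_apply, h2, sub_zero] at h1
      exact h1
    refine ⟨(a, b), ?_⟩
    show S.s a + (b : V) = v
    rw [sub_sub, sub_eq_zero] at hzero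
    exact hzero.symm
  let τ : (↥(LinearMap.range N) × ↥(LinearMap.range N)) ≃ₗ[F] V :=
    LinearEquiv.ofBijective S.tau ⟨S.tau_injective h, hsurj⟩
  have hWpos : 0 < Module.finrank F ↥(LinearMap.range N) := by
    have := τ.finrank_eq
    rw [Module.finrank_prod] at this
    omega
  obtain ⟨x, hx⟩ : ∃ x, S.form x x ≠ 0 := by
    by_contra hcon
    push Not at hcon
    have hN0 : N = 0 := (alt_iff_zero hB hBn hσ h).mp fun v => by
      let a : LinearMap.range N := ⟨N v, LinearMap.mem_range_self N v⟩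
      have h1 : B (v - S.s a) (a : V) = 0 :=
        selfAdj_range_orth h (by rw [map_sub, S.right]; exact sub_self _) a
      have h2 : B (S.s a) (a : V) = 0 := (S.form_eq a a).symm.trans (hcon a)
      rw [map_sub, LinearMap.sub_apply, h2, sub_zero] at h1
      exact h1
    subst hN0
    rw [LinearMap.range_zero, finrank_bot] at hWpos
    exact lt_irrefl 0 hWpos
  obtain ⟨ν, hν⟩ := FiniteField.isSquare_of_char_two (ringChar.eq F 2) μ
  have hν1 : σ ν * ν = 1 := by
    have h2 : (σ ν * ν) * (σ ν * ν) = 1 := by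
      rw [← hμ, hν, map_mul]; ring
    rcases mul_self_eq_one_iff.mp h2 with h3 | h3
    · exact h3
    · rwa [CharTwo.neg_eq] at h3
  obtain ⟨φ, hφ, hdetφ, -⟩ := exists_quasiReflection S.form S.symm hx hν1
  obtain ⟨g, hg, hgN, hgt⟩ := IsoSection.lift hBn hWitt hB h h S S φ hφ
  refine ⟨g, hg, hgN, ?_⟩
  have hcomp : g.toLinearMap = τ.toLinearMap ∘ₗ
      (LinearMap.prodMap φ.toLinearMap φ.toLinearMap) ∘ₗ τ.symm.toLinearMap := by
    refine LinearMap.ext fun v => ?_
    obtain ⟨p, rfl⟩ := τ.surjective v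
    simp only [LinearMap.coe_comp, LinearEquiv.coe_coe, Function.comp_apply,
      LinearEquiv.symm_apply_apply, LinearMap.prodMap_apply]
    exact hgt p
  rw [hcomp, LinearMap.det_conj, LinearMap.det_prodMap, hdetφ, ← hν]

section SU

variable {n : ℕ}

/-- The Hermitian form as a sesquilinear map. -/
def hermB {K : Type*} [Field K] (n : ℕ) (σ : K →+* K) :
    (Fin n → K) →ₛₗ[σ] (Fin n → K) →ₗ[K] K :=
  LinearMap.mk₂'ₛₗ σ (RingHom.id K) (fun x y => ∑ i, σ (x i) * y i)
    (fun x y z => by simp [add_mul, Finset.sum_add_distrib])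
    (fun c x y => by simp [Finset.mul_sum, mul_assoc])
    (fun x y z => by simp [mul_add, Finset.sum_add_distrib])
    (fun c x y => by simp [Finset.mul_sum, mul_left_comm])

omit [Fintype F] [CharP F 2] in
theorem hermB_apply (x y : Fin n → F) : hermB n σ x y = ∑ i, σ (x i) * y i := rfl

omit [Fintype F] [CharP F 2] in
theorem hermB_symm (hσ2 : ∀ a, σ (σ a) = a) : SesqSymm (hermB n σ) := fun x y => by
  simp only [hermB_apply, map_sum, map_mul, hσ2]
  exact Finset.sum_congr rfl fun i _ => mul_comm _ _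

omit [Fintype F] [CharP F 2] in
theorem hermB_nondeg : SesqNondeg (hermB n σ) := by
  intro y hy
  funext i
  classical
  have := hy (Pi.single i 1)
  rw [hermB_apply, Finset.sum_eq_single i (fun j _ hj => by simp [hj]) (by simp)] at this
  simpa using this

omit [CharP F 2] in
theorem exists_norm_of_fixed {q : ℕ} (hq : 2 ≤ q) (hF : Fintype.card F = q ^ 2) (c : F)
    (hc : c ^ q = c) (hc0 : c ≠ 0) : ∃ a : F, a ^ q * a = c := by
  classical
  obtain ⟨ζ, hζ⟩ := IsCyclic.exists_generator (α := Fˣ)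
  obtain ⟨k, hk⟩ := (Subgroup.mem_zpowers_iff.mp (hζ (Units.mk0 c hc0)))
  have hord : orderOf ζ = q ^ 2 - 1 := by
    rw [orderOf_eq_card_of_forall_mem_zpowers hζ, Nat.card_eq_fintype_card, Fintype.card_units, hF]
  have h1 : ζ ^ (k * ((q : ℤ) - 1)) = 1 := by
    rw [zpow_mul, hk]
    have : (Units.mk0 c hc0) ^ (q - 1) = 1 := by
      apply Units.ext
      rw [Units.val_pow_eq_pow_val, Units.val_mk0, Units.val_one]
      apply mul_left_cancel₀ hc0
      rw [← pow_succ', Nat.sub_add_cancel (by omega), hc, mul_one]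
    rw [show (q : ℤ) - 1 = ((q - 1 : ℕ) : ℤ) by omega, zpow_natCast, this]
  obtain ⟨j, hj⟩ := orderOf_dvd_iff_zpow_eq_one.mpr h1
  have hpos : 1 ≤ q ^ 2 := Nat.one_le_pow _ _ (by omega)
  have hcast : ((orderOf ζ : ℕ) : ℤ) = (q : ℤ) ^ 2 - 1 := by
    rw [hord, Nat.cast_sub hpos]; push_cast; rfl
  rw [hcast] at hj
  have hk' : k = ((q : ℤ) + 1) * j := by
    have hne : ((q : ℤ) - 1) ≠ 0 := by omega
    apply mul_right_cancel₀ hne
    linear_combination hj
  refine ⟨((ζ ^ j : Fˣ) : F), ?_⟩
  rw [← Units.val_pow_eq_pow_val, ← Units.val_mul, ← zpow_natCast (ζ ^ j), ← zpow_mul, ← zpow_add,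
    show j * (q : ℤ) + j = k by rw [hk']; ring, hk, Units.val_mk0]

theorem su_involution_isConj_iff {q : ℕ} (hF : Fintype.card F = q ^ 2) (hn : 0 < n)
    (a b : ↥(Cfsg.SU n F q)) (ha : a * a = 1) (hb : b * b = 1) :
    IsConj a b ↔ (((a : Matrix.SpecialLinearGroup (Fin n) F) : Matrix (Fin n) (Fin n) F) - 1).rank =
      (((b : Matrix.SpecialLinearGroup (Fin n) F) : Matrix (Fin n) (Fin n) F) - 1).rank := by
  classical
  haveI : Fact (Nat.Prime 2) := ⟨Nat.prime_two⟩
  obtain ⟨e, he⟩ := FiniteField.card F 2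
  obtain ⟨k, -, hk⟩ := (Nat.dvd_prime_pow Nat.prime_two).mp
    (show q ∣ 2 ^ (e : ℕ) by rw [← he.2, hF]; exact dvd_pow_self q two_ne_zero)
  have hq2 : 2 ≤ q := by
    have h1 : 1 < Fintype.card F := Fintype.one_lt_card
    rw [hF] at h1
    by_contra hlt
    push Not at hlt
    interval_cases q <;> simp at h1
  let σ : F →+* F := iterateFrobenius F 2 k
  have hσq : ∀ x : F, σ x = x ^ q := fun x => by rw [hk]; exact iterateFrobenius_def 2 k x
  have hσ2 : ∀ x, σ (σ x) = x := fun x => by
    rw [hσq, hσq, ← pow_mul, ← pow_two q, ← hF, FiniteField.pow_card]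
  have hσ : σ ≠ RingHom.id F := by
    intro h
    have hall : ∀ x : F, x ^ q = x := fun x => by rw [← hσq, h]; rfl
    obtain ⟨ζ, hζ⟩ := IsCyclic.exists_generator (α := Fˣ)
    have hord : orderOf ζ = q ^ 2 - 1 := by
      rw [orderOf_eq_card_of_forall_mem_zpowers hζ, Nat.card_eq_fintype_card, Fintype.card_units, hF]
    have h1 : ζ ^ (q - 1) = 1 := by
      apply Units.ext
      rw [Units.val_pow_eq_pow_val, Units.val_one]
      apply mul_left_cancel₀ ζ.ne_zero
      rw [← pow_succ', Nat.sub_add_cancel (by omega), hall, mul_one]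
    have h2 := Nat.le_of_dvd (by omega) (orderOf_dvd_iff_pow_eq_one.mpr h1)
    rw [hord] at h2
    have : q * 2 ≤ q ^ 2 := by rw [pow_two]; exact Nat.mul_le_mul_left q hq2
    omega
  have hB := hermB_symm (n := n) hσ2
  have hBn := hermB_nondeg (n := n) (σ := σ)
  have hherm : ∀ u v, Cfsg.hermForm n F q u v = hermB n σ v u := fun u v => by
    simp only [Cfsg.hermForm, hermB_apply, hσq, mul_comm]
  have htr : ∀ x, ∃ t : F, t + σ t = hermB n σ x x := fun x =>
    CfsgLib.Forms.exists_add_conj_eq hσ hσ2 _ (hB x x)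
  have hnorm : ∀ c : F, σ c = c → c ≠ 0 → ∃ x, σ x * x = c := fun c hc hc0 => by
    obtain ⟨x, hx⟩ := exists_norm_of_fixed hq2 hF c (by rw [← hσq, hc]) hc0
    exact ⟨x, by rw [hσq, hx]⟩
  have hWitt := fun X f hf hinj => CfsgLib.Forms.witt_hermitian (hermB n σ) hσ hσ2 ⟨hB⟩
    ⟨fun x hx => hBn x fun y => sesq_symm_zero hB (hx y), fun y hy => hBn y hy⟩ X f hf hinj
  let mat : ↥(Cfsg.SU n F q) → Matrix (Fin n) (Fin n) F := fun c =>
    ((c : Matrix.SpecialLinearGroup (Fin n) F) : Matrix (Fin n) (Fin n) F)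
  have hmul : ∀ c d, mat (c * d) = mat c * mat d := fun c d => rfl
  have hone : mat 1 = 1 := rfl
  have hpres : ∀ (c : ↥(Cfsg.SU n F q)) x y,
      hermB n σ (Matrix.mulVec (mat c) x) (Matrix.mulVec (mat c) y) = hermB n σ x y := fun c x y => by
    rw [← hherm, ← hherm]; exact c.2 y x
  have hadj : ∀ c : ↥(Cfsg.SU n F q), c * c = 1 →
      SelfAdjNil (hermB n σ) (Matrix.toLin' (mat c - 1)) := by
    intro c hc
    have hAA : ∀ x, Matrix.mulVec (mat c) (Matrix.mulVec (mat c) x) = x := fun x => by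
      rw [Matrix.mulVec_mulVec, ← hmul, hc, hone, Matrix.one_mulVec]
    refine ⟨fun x => ?_, fun x y => ?_⟩
    · simp only [Matrix.toLin'_apply, Matrix.sub_mulVec, Matrix.one_mulVec, Matrix.mulVec_sub, hAA]
      funext i
      simp only [Pi.sub_apply, Pi.zero_apply]
      linear_combination (x i - Matrix.mulVec (mat c) x i) * CharTwo.two_eq_zero (R := F)
    · simp only [Matrix.toLin'_apply, Matrix.sub_mulVec, Matrix.one_mulVec, map_sub, LinearMap.sub_apply]
      congr 1
      rw [← hpres c, hAA]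
  constructor
  · intro h
    obtain ⟨g, hg⟩ := isConj_iff.mp h
    show (mat a - 1).rank = (mat b - 1).rank
    have h1 : mat g * mat g⁻¹ = 1 := by rw [← hmul, mul_inv_cancel, hone]
    have h2 : mat g⁻¹ * mat g = 1 := by rw [← hmul, inv_mul_cancel, hone]
    have he : mat b - 1 = mat g * (mat a - 1) * mat g⁻¹ := by
      rw [Matrix.mul_sub, Matrix.sub_mul, Matrix.mul_one, h1, ← hmul, ← hmul, hg]
    rw [he, Matrix.rank_mul_eq_left_of_isUnit_det _ _ (Matrix.isUnit_det_of_right_inverse h2),
      Matrix.rank_mul_eq_right_of_isUnit_det _ _ (Matrix.isUnit_det_of_right_inverse h1)]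
  · intro hr
    have hr' : Module.finrank F (LinearMap.range (Matrix.toLin' (mat a - 1))) =
        Module.finrank F (LinearMap.range (Matrix.toLin' (mat b - 1))) := by
      rw [Matrix.toLin'_apply', Matrix.toLin'_apply']; exact hr
    have hzero : ∀ M : (Fin n → F) →ₗ[F] (Fin n → F),
        M = 0 ↔ Module.finrank F (LinearMap.range M) = 0 := fun M => by
      rw [Submodule.finrank_eq_zero, LinearMap.range_eq_bot]
    obtain ⟨g, hg, hgN⟩ := exists_selfAdj_conj hB hBn hσ2 htr hnorm hWitt (hadj a ha) (hadj b hb) hr'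
      (by rw [alt_iff_zero hB hBn hσ (hadj a ha), alt_iff_zero hB hBn hσ (hadj b hb), hzero,
        hzero, hr'])
    have hdetu : ∀ g : (Fin n → F) ≃ₗ[F] (Fin n → F),
        (∀ x y, hermB n σ (g x) (g y) = hermB n σ x y) →
        σ (LinearMap.det g.toLinearMap) * LinearMap.det g.toLinearMap = 1 := by
      intro g hg
      set M := LinearMap.toMatrix' g.toLinearMap with hM
      have hmm : (M.map σ).transpose * M = 1 := by
        ext i j
        have := hg (Pi.single i 1) (Pi.single j 1)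
        rw [hermB_apply, hermB_apply, Finset.sum_eq_single i (s := Finset.univ) (f := fun k => σ ((Pi.single i (1 : F) : Fin n → F) k) * (Pi.single j (1 : F) : Fin n → F) k) (fun k _ hk => by simp [hk]) (by simp)] at this
        rw [Matrix.mul_apply]
        simp only [Matrix.transpose_apply, Matrix.map_apply, hM, LinearMap.toMatrix'_apply,
          LinearEquiv.coe_coe]
        simpa [Matrix.one_apply, Pi.single_apply] using this
      rw [← LinearMap.det_toMatrix', ← hM, RingHom.map_det, RingHom.mapMatrix_apply,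
        ← Matrix.det_transpose, ← Matrix.det_mul, hmm, Matrix.det_one]
    set c := LinearMap.det g.toLinearMap with hc
    have hc1 : σ c * c = 1 := hdetu g hg
    have hc0 : c ≠ 0 := (LinearEquiv.isUnit_det' g).ne_zero
    obtain ⟨d, hd, hdN, hdd⟩ := exists_commuting_isometry_det hB hBn hσ hσ2 htr hWitt
      (by rw [Module.finrank_fintype_fun_eq_card, Fintype.card_fin]; exact hn) (hadj a ha)
      (μ := c⁻¹) (by rw [map_inv₀, ← mul_inv, hc1, inv_one])
    set G := d.trans g with hG
    have hGdet : (LinearMap.toMatrix' G.toLinearMap).det = 1 := by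
      rw [LinearMap.det_toMatrix', hG, show (d.trans g).toLinearMap = g.toLinearMap ∘ₗ d.toLinearMap
        from rfl, LinearMap.det_comp, hdd, ← hc, mul_inv_cancel₀ hc0]
    obtain ⟨S, hS⟩ : ∃ S : Matrix.SpecialLinearGroup (Fin n) F,
        (S : Matrix (Fin n) (Fin n) F) = LinearMap.toMatrix' G.toLinearMap := ⟨⟨_, hGdet⟩, rfl⟩
    have hSv : ∀ x, Matrix.mulVec (S : Matrix (Fin n) (Fin n) F) x = G x := fun x => by
      rw [hS, ← Matrix.toLin'_apply, Matrix.toLin'_toMatrix']; rfl
    have hmem : S ∈ Cfsg.SU n F q := by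
      intro u v
      show Cfsg.hermForm n F q (Matrix.mulVec (S : Matrix (Fin n) (Fin n) F) u)
        (Matrix.mulVec (S : Matrix (Fin n) (Fin n) F) v) = _
      rw [hherm, hherm, hSv, hSv, hG, LinearEquiv.trans_apply, LinearEquiv.trans_apply, hg, hd]
    refine isConj_iff.mpr ⟨⟨S, hmem⟩, ?_⟩
    rw [mul_inv_eq_iff_eq_mul]
    apply Subtype.ext
    apply Subtype.ext
    show (S : Matrix (Fin n) (Fin n) F) * mat a = mat b * (S : Matrix (Fin n) (Fin n) F)
    have key : (S : Matrix (Fin n) (Fin n) F) * (mat a - 1) =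
        (mat b - 1) * (S : Matrix (Fin n) (Fin n) F) := by
      apply Matrix.toLin'.injective
      refine LinearMap.ext fun x => ?_
      simp only [Matrix.toLin'_apply, ← Matrix.mulVec_mulVec, hSv]
      rw [hG, LinearEquiv.trans_apply, LinearEquiv.trans_apply]
      have e1 := hdN x
      have e2 := hgN (d x)
      simp only [Matrix.toLin'_apply] at e1 e2
      rw [e1, e2]
    rw [Matrix.mul_sub, Matrix.sub_mul, Matrix.mul_one, Matrix.one_mul] at key
    exact sub_left_inj.mp key

end SU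

end CfsgLib.CharTwoInv
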